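import Cfsg.Agent.Omega.NO3S.ActT.Pack
import Cfsg.Agent.Omega.NO3S.Pas.KTwo
import Cfsg.Agent.Omega.NOThreeL.FFB.Tools

/-!
# THEOREM ACT (#20049, helper365): two active types of one bad line

`V` FLAT over the bad line `F`, `B ⊴ C_G(F)` abelian (the group generated by the good lines), the KEY `Pas.Key V F B`
(it holds if `|V ∩ B : F| ≤ |V : E|`: `Pas.key_of_le`); `P₀, P` two active types (`Act`) with lines `L = V_{P₀}`, `c = V_P` in `B`; the conjugates of the lines under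
`P₀`, `P` which are in `E` are in `B`.

* `AA.good_le` : `g ∈ P₀`, `P₀ = ⟨S^g, W⟩`, `c^g ≤ E` ⟹ `c ≤ L`;
* `AA.bad` : `g ∈ P₀`, `c^g ≰ E` ⟹ `V ∩ B = L F` and there is a point `R` of `c` with `R^g ≤ L`, `R^g ∩ F = 1`,
  `[V, C_W(L)] ≤ R^g [L, W]`, `R^g ⊆ {[v, b] | v ∈ V, b ∈ C_W(L)}`;
* `AA.eq` **(THEOREM ACT)** : `c = L`.
-/

set_option autoImplicit false
set_option linter.unusedSectionVars false

namespace Cfsg.Agent.Omega.NO3S.ActT

open Subgroup Cfsg Cfsg.Agent.ZN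
open Cfsg.Agent.ZN.ChoiceBase (cj mem_cj cj_mono)
open Cfsg.Agent.Omega.NoFF.Basic
open Cfsg.Agent.Omega.MinPar
open Cfsg.Agent.Omega.FFThm (StmtM)
open Cfsg.Agent.Omega.NOThreeL.NF (MinOffM RP pts)
open Cfsg.Agent.Omega.NOThreeL.NF.NatR (Const)
open Cfsg.Agent.Omega.NOThreeL.Low.Key (BH conj_eq_of_norm' norm_conj_mem c_eq_one')
open Cfsg.Agent.Omega.NOne
open Cfsg.Agent.Omega.NOne.NearFF (c_def c_inv)
open Cfsg.Agent.Omega.NO3S.BetaFF (BB)
open Cfsg.Agent.MinSimple.VModule (le_normalizer_zl)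
open scoped Pointwise commutatorElement

universe u

local notation "cm" => Cfsg.Agent.Omega.NOne.NearFF.c

variable {G : Type u} [Group G] [Finite G]

/-- Two active types of one bad line. -/
structure AA (S : Sylow 2 G) (P₀ P V F B : Subgroup G) : Prop where
  a₀ : BetaFF.Act S P₀ V F
  a : BetaFF.Act S P V F
  bh : BH V F B
  LB : zl (S : Subgroup G) P₀ ≤ B
  cB : zl (S : Subgroup G) P ≤ B
  hk : Pas.Key V F B
  good₀ : ∀ g ∈ P₀, MulAut.conj g • zl (S : Subgroup G) P ≤ Flat.EE V F → MulAut.conj g • zl (S : Subgroup G) P ≤ B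
  good : ∀ g ∈ P, MulAut.conj g • zl (S : Subgroup G) P₀ ≤ Flat.EE V F → MulAut.conj g • zl (S : Subgroup G) P₀ ≤ B

theorem conj_smul_eq_cj' (g : G) (H : Subgroup G) : MulAut.conj g • H = cj g H := rfl

/-- `s` normalises `A ⊔ B` if it normalises both. -/
theorem le_normalizer_sup' {K A B : Subgroup G} (hA : K ≤ normalizer (A : Set G)) (hB : K ≤ normalizer (B : Set G)) :
    K ≤ normalizer ((A ⊔ B : Subgroup G) : Set G) := by
  intro x hx
  rw [ChoiceBase.mem_normalizer_iff_cj]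
  have h1 := ChoiceBase.cj_eq_of_mem_normalizer (hA hx)
  have h2 := ChoiceBase.cj_eq_of_mem_normalizer (hB hx)
  have h3 : cj x (A ⊔ B) = cj x A ⊔ cj x B := map_sup _ _ _
  rw [h3, h1, h2]

namespace AA

variable {S : Sylow 2 G} {P₀ P V F B : Subgroup G} (h : AA S P₀ P V F B)
include h

theorem symm : AA S P P₀ V F B := ⟨h.a, h.a₀, h.bh, h.cB, h.LB, h.hk, h.good, h.good₀⟩

theorem hyp : Flat.Hyp V F := h.bh.toHyp

theorem L_le_I : zl (S : Subgroup G) P₀ ≤ V ⊓ B := le_inf h.a₀.LV h.LB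

theorem not_L_le_F : ¬ zl (S : Subgroup G) P₀ ≤ F := by
  intro hle
  apply h.a₀.mov
  intro w hw
  rw [mem_centralizer_iff]
  exact fun l hl => Flat.Hyp.F_comm (hle hl) (Flat.Hyp.W_le_X hw)

theorem exists_l : ∃ l ∈ zl (S : Subgroup G) P₀, l ∉ F := SetLike.not_le_iff_exists.1 h.not_L_le_F

theorem exists_b : ∃ b ∈ B, b ∉ Flat.NN V F :=
  h.bh.exists_not_mem_NN fun hle => h.not_L_le_F (h.L_le_I.trans hle)

/-- `B` centralises `L` -/
theorem B_le_BB : B ≤ BB V F (zl (S : Subgroup G) P₀) :=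
  le_inf h.bh.le_W (comm_symm (h.LB.trans h.bh.abel))

/-- `[r, W] = [r', W]` for `r, r' ∈ V ∩ B - F` -/
theorem root' {r r' s : G} (hr : r ∈ V ⊓ B) (hrF : r ∉ F) (hr' : r' ∈ V ⊓ B) (hrF' : r' ∉ F) (hs : s ∈ Flat.WW V F) :
    ∃ s' ∈ Flat.WW V F, cm r' s' = cm r s := by
  obtain ⟨b, hb, hbN⟩ := h.exists_b
  exact (h.hk r' hr' hrF' b hb hbN _).2 ((h.hk r hr hrF b hb hbN _).1 ⟨s, hs, rfl⟩)

theorem const : Const (zl (S : Subgroup G) P₀) (Flat.WW V F) := by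
  intro x hx hxc y hy hyc a ha
  have hn : ∀ z : G, z ∉ centralizer (Flat.WW V F : Set G) → z ∉ F := by
    intro z hz hzF
    apply hz
    rw [mem_centralizer_iff]
    exact fun w hw => (Flat.Hyp.F_comm hzF (Flat.Hyp.W_le_X hw)).symm
  obtain ⟨s, hs, h1⟩ := h.root' (h.L_le_I hx) (hn x hxc) (h.L_le_I hy) (hn y hyc) ha
  refine ⟨s, hs, ?_⟩
  have e1 : a * x * a⁻¹ * x⁻¹ = (cm x a)⁻¹ := by rw [c_def]; group
  have e2 : s * y * s⁻¹ * y⁻¹ = (cm y s)⁻¹ := by rw [c_def]; group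
  rw [e1, e2, h1]

theorem min₀ (hFF : StmtM.{u}) : MinOffM (zl (S : Subgroup G) P₀) (S : Subgroup G) (Flat.WW V F) :=
  (pack hFF h.a₀ h.const).1

theorem rp₀ (hFF : StmtM.{u}) : RP (S : Subgroup G) P₀ := (pack hFF h.a₀ h.const).2.1

theorem tl₀ (hFF : StmtM.{u}) : TL (S : Subgroup G) P₀ (Flat.WW V F) := (pack hFF h.a₀ h.const).2.2

/-- `[r, W] ≤ ρ = [L, W]` for `r ∈ V ∩ B` -/
theorem c_mem_rho {r s : G} (hr : r ∈ V ⊓ B) (hs : s ∈ Flat.WW V F) :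
    cm r s ∈ ⁅zl (S : Subgroup G) P₀, Flat.WW V F⁆ := by
  by_cases hrF : r ∈ F
  · rw [Flat.Hyp.c_F hrF hs]
    exact one_mem _
  · obtain ⟨l, hl, hlF⟩ := h.exists_l
    obtain ⟨s', hs', h1⟩ := h.root' hr hrF (h.L_le_I hl) hlF hs
    rw [← h1]
    exact commutator_mem_commutator hl hs'

theorem rho_le' : ⁅zl (S : Subgroup G) P, Flat.WW V F⁆ ≤ ⁅zl (S : Subgroup G) P₀, Flat.WW V F⁆ := by
  rw [commutator_le]
  intro x hx w hw
  exact h.c_mem_rho (h.symm.L_le_I hx) hw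

theorem rho_eq : ⁅zl (S : Subgroup G) P, Flat.WW V F⁆ = ⁅zl (S : Subgroup G) P₀, Flat.WW V F⁆ :=
  le_antisymm h.rho_le' h.symm.rho_le'

theorem rho_le : ⁅zl (S : Subgroup G) P₀, Flat.WW V F⁆ ≤ zl (S : Subgroup G) P₀ := by
  rw [commutator_le]
  intro x hx w hw
  have h1 : w * x⁻¹ * w⁻¹ ∈ zl (S : Subgroup G) P₀ := norm_conj_mem (h.a₀.PL (h.a₀.WP hw)) (inv_mem hx)
  have e : ⁅x, w⁆ = x * (w * x⁻¹ * w⁻¹) := by rw [commutatorElement_def]; group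
  rw [e]
  exact mul_mem hx h1

theorem rho_ne : ⁅zl (S : Subgroup G) P₀, Flat.WW V F⁆ ≠ ⊥ := by
  intro h0
  apply h.a₀.mov
  rw [commutator_eq_bot_iff_le_centralizer] at h0
  exact comm_symm h0

theorem pts_eq : pts (zl (S : Subgroup G) P) (S : Subgroup G) (Flat.WW V F) =
    pts (zl (S : Subgroup G) P₀) (S : Subgroup G) (Flat.WW V F) := by
  unfold pts
  rw [h.rho_eq]

theorem pts_le {r : Subgroup G} (hr : r ∈ pts (zl (S : Subgroup G) P₀) (S : Subgroup G) (Flat.WW V F)) :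
    r ≤ zl (S : Subgroup G) P₀ := by
  obtain ⟨s, hs, rfl⟩ := hr
  have h1 := cj_mono s h.rho_le
  rwa [ChoiceBase.cj_eq_of_mem_normalizer (h.a₀.PL (h.a₀.SP hs))] at h1

theorem card_pts {r : Subgroup G} (hr : r ∈ pts (zl (S : Subgroup G) P₀) (S : Subgroup G) (Flat.WW V F)) :
    Nat.card r = Nat.card ↥(⁅zl (S : Subgroup G) P₀, Flat.WW V F⁆ : Subgroup G) := by
  obtain ⟨s, -, rfl⟩ := hr
  exact ChoiceBase.card_cj _ _

/-- `|L| = |c|` -/
theorem card_eq (hFF : StmtM.{u}) : Nat.card (zl (S : Subgroup G) P) = Nat.card (zl (S : Subgroup G) P₀) := by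
  rw [(h.rp₀ hFF).cardV _ (h.min₀ hFF), (h.symm.rp₀ hFF).cardV _ (h.symm.min₀ hFF), h.pts_eq, h.rho_eq]

theorem eq_of_le (hFF : StmtM.{u}) (hle : zl (S : Subgroup G) P ≤ zl (S : Subgroup G) P₀) :
    zl (S : Subgroup G) P = zl (S : Subgroup G) P₀ :=
  Subgroup.eq_of_le_of_card_ge hle (h.card_eq hFF).ge

/-- `|ρ| = |L : L ∩ F|` -/
theorem card_rho (hFF : StmtM.{u}) : Nat.card ↥(⁅zl (S : Subgroup G) P₀, Flat.WW V F⁆ : Subgroup G) =
    F.relIndex (zl (S : Subgroup G) P₀) := by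
  rw [(h.rp₀ hFF).card _ (h.min₀ hFF), h.a₀.exact hFF, h.a₀.relIndex_F]

/-! ### The good case -/

/-- an element of `L` or `c` and `W` -/
theorem W_norm {M : Subgroup G} (hM : M ≤ V ⊓ B) (hρ : ⁅zl (S : Subgroup G) P₀, Flat.WW V F⁆ ≤ M) :
    Flat.WW V F ≤ normalizer (M : Set G) := by
  have key : ∀ w ∈ Flat.WW V F, ∀ x ∈ M, w * x * w⁻¹ ∈ M := by
    intro w hw x hx
    have h1 := hρ (h.c_mem_rho (hM hx) hw)
    have e : w * x * w⁻¹ = (cm x w)⁻¹ * x := by rw [c_def]; group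
    rw [e]
    exact mul_mem (inv_mem h1) hx
  intro w hw
  rw [mem_normalizer_iff]
  intro x
  refine ⟨key w hw x, fun hx => ?_⟩
  have h1 := key _ (inv_mem hw) _ hx
  have e : w⁻¹ * (w * x * w⁻¹) * w⁻¹⁻¹ = x := by group
  rwa [e] at h1

/-- **The good case.** -/
theorem good_le (hFF : StmtM.{u}) {g : G} (hg : g ∈ P₀) (hgen : P₀ ≤ cj g (S : Subgroup G) ⊔ Flat.WW V F)
    (hE : MulAut.conj g • zl (S : Subgroup G) P ≤ Flat.EE V F) :
    zl (S : Subgroup G) P ≤ zl (S : Subgroup G) P₀ := by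
  set L := zl (S : Subgroup G) P₀ with hL
  set d := zl (S : Subgroup G) P with hd
  have hSP₀ := h.a₀.SP
  have hB := h.good₀ g hg hE
  have hV : MulAut.conj g • d ≤ V := hE.trans inf_le_left
  have hdV : d ≤ V := h.a.LV
  have hLV : L ≤ V := h.a₀.LV
  have hLg : cj g L = L := ChoiceBase.cj_eq_of_mem_normalizer (h.a₀.PL hg)
  -- `M = c^g L` is normalised by `P₀`
  have hMI : MulAut.conj g • d ⊔ L ≤ V ⊓ B := sup_le (le_inf hV hB) h.L_le_I
  have hP₀M' : P₀ ≤ normalizer ((MulAut.conj g • d ⊔ L : Subgroup G) : Set G) := by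
    refine hgen.trans (sup_le ?_ (h.W_norm hMI (h.rho_le.trans le_sup_right)))
    refine le_normalizer_sup' ?_ ?_
    · have h1 := cj_mono g (h.a.PL.trans' h.a.SP : (S : Subgroup G) ≤ normalizer (d : Set G))
      rwa [ChoiceBase.cj_normalizer] at h1
    · have h1 := cj_mono g (h.a₀.PL.trans' h.a₀.SP : (S : Subgroup G) ≤ normalizer (L : Set G))
      rwa [ChoiceBase.cj_normalizer, hLg] at h1
  have hMeq : MulAut.conj g • d ⊔ L = d ⊔ L := by
    have h1 := ChoiceBase.cj_eq_of_mem_normalizer (hP₀M' (inv_mem hg))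
    have h2 : cj g⁻¹ (MulAut.conj g • d ⊔ L) = cj g⁻¹ (cj g d) ⊔ cj g⁻¹ L := map_sup _ _ _
    rw [h2, ChoiceBase.cj_inv_cj, ChoiceBase.cj_eq_of_mem_normalizer (h.a₀.PL (inv_mem hg))] at h1
    exact h1.symm
  have hP₀M : P₀ ≤ normalizer ((d ⊔ L : Subgroup G) : Set G) := hMeq ▸ hP₀M'
  -- `X = [M, Q]`
  have hQ := h.a₀.o2_eq
  set X : Subgroup G := ⁅(d ⊔ L : Subgroup G), o2 P₀⁆ with hX
  have hLn : L ≤ normalizer (d : Set G) := (h.hyp.comm.trans (centralizer_le hdV)).trans'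
    hLV |>.trans (centralizer_le_normalizer _)
  have hXd : X ≤ d := by
    rw [hX, commutator_le]
    intro x hx q hq
    rw [← hQ] at hq
    obtain ⟨a, ha, l, hl, rfl⟩ := Pas.mem_sup_of_norm hLn hx
    have e1 : ⁅a * l, q⁆ = a * (l * (q * l⁻¹ * q⁻¹)) * (q * a⁻¹ * q⁻¹) := by
      rw [commutatorElement_def]; group
    have e2 : q * l⁻¹ * q⁻¹ = l⁻¹ := by
      have := mem_centralizer_iff.1 hq.2 l⁻¹ (inv_mem hl)
      rw [← this, mul_inv_cancel_right]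
    rw [e1, e2, mul_inv_cancel, mul_one]
    exact mul_mem ha (norm_conj_mem (h.a.PL (h.a.SP hq.1)) (inv_mem ha))
  have hP₀X : P₀ ≤ normalizer (X : Set G) := by
    intro x hx
    rw [ChoiceBase.mem_normalizer_iff_cj]
    have h1 : cj x X = ⁅cj x (d ⊔ L : Subgroup G), cj x (o2 P₀)⁆ := map_commutator _ _ _
    rw [h1, ChoiceBase.cj_eq_of_mem_normalizer (hP₀M hx),
      ChoiceBase.cj_eq_of_mem_normalizer (le_normalizer_o2 P₀ hx)]
  by_cases hX1 : X = ⊥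
  · rw [hX, commutator_eq_bot_iff_le_centralizer] at hX1
    exact (le_inf hdV (le_sup_left.trans hX1) : d ≤ BetaFF.Act.CQ P₀ V).trans (h.a₀.cent_VQ hFF).le
  · have hXS : X ≤ (S : Subgroup G) := hXd.trans ((h.a.LE.trans Flat.Hyp.E_le_W).trans h.a.WS)
    obtain ⟨z, hz, hz1, hzX⟩ := NOThreeL.FFB.exists_zc hXS (fun x hx => h.hyp.sq x (hdV (hXd hx)))
      (hSP₀.trans hP₀X) hX1
    have h1 := ((h.rp₀ hFF).irr z hz hz1 X hP₀X hzX).trans hXd
    exact (h.symm.eq_of_le hFF h1).ge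

/-! ### The bad case -/

/-- **The bad case.** -/
theorem bad (hFF : StmtM.{u}) {g : G} (hg : g ∈ P₀) (hb : ¬ MulAut.conj g • zl (S : Subgroup G) P ≤ Flat.EE V F) :
    ∃ R ∈ pts (zl (S : Subgroup G) P) (S : Subgroup G) (Flat.WW V F),
      V ⊓ B = zl (S : Subgroup G) P₀ ⊔ F ∧ cj g R ≤ zl (S : Subgroup G) P₀ ∧ cj g R ⊓ F = ⊥ ∧
      (∀ v ∈ V, ∀ b ∈ BB V F (zl (S : Subgroup G) P₀),
        cm v b ∈ cj g R ⊔ ⁅zl (S : Subgroup G) P₀, Flat.WW V F⁆) ∧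
      ∀ y ∈ cj g R, ∃ v ∈ V, ∃ b ∈ BB V F (zl (S : Subgroup G) P₀), cm v b = y := by
  obtain ⟨ι, R, N, hR, hN, hgen, htri, hsur⟩ := (h.symm.tl₀ hFF).blocks
  set L := zl (S : Subgroup G) P₀ with hL
  set d := zl (S : Subgroup G) P with hd
  have hSP₀ := h.a₀.SP
  have hdV : d ≤ V := h.a.LV
  have hLg : cj g L = L := ChoiceBase.cj_eq_of_mem_normalizer (h.a₀.PL hg)
  have hVg : cj g V = V := ChoiceBase.cj_eq_of_mem_normalizer (h.a₀.PV hg)
  obtain ⟨i, hi⟩ : ∃ i, ¬ cj g (N i) ≤ Flat.EE V F := by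
    by_contra hall
    push Not at hall
    apply hb
    refine (cj_mono g hgen).trans ?_
    exact Pas.conj_iSup_le (g := g) (H := N) hall
  obtain ⟨e, he, heE⟩ := SetLike.not_le_iff_exists.1 hi
  have hRL : R i ≤ L := h.pts_le (h.pts_eq ▸ hR i)
  have hRL' : cj g (R i) ≤ L := by
    have h1 := cj_mono g hRL
    rwa [hLg] at h1
  have hNV : cj g (N i) ≤ V := by
    have h1 := cj_mono g ((hN i).trans hdV)
    rwa [hVg] at h1
  -- the elements of `C_W(L)`, conjugated by `g⁻¹`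
  have ht : ∀ b ∈ BB V F L, g⁻¹ * b * g ∈ (S : Subgroup G) ∧ CP (S : Subgroup G) P (Flat.WW V F) (g⁻¹ * b * g) := by
    intro b hbb
    have h1 : b ∈ o2 P₀ := h.a₀.BB_le_o2 hbb
    have h2 : g⁻¹ * b * g⁻¹⁻¹ ∈ o2 P₀ := norm_conj_mem (le_normalizer_o2 P₀ (inv_mem hg)) h1
    rw [inv_inv, ← h.a₀.o2_eq] at h2
    refine ⟨h2.1, fun r hr y hy => ?_⟩
    exact (mem_centralizer_iff.1 h2.2 y (h.pts_le (h.pts_eq ▸ hr) hy)).symm
  have hcR : ∀ v ∈ cj g (N i), ∀ b ∈ BB V F L, cm v b ∈ cj g (R i) := by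
    intro v hv b hbb
    rw [mem_cj] at hv ⊢
    have h1 := htri _ (ht b hbb).1 (ht b hbb).2 i _ hv
    have e1 : g⁻¹ * cm v b * g = cm (g⁻¹ * v * g) (g⁻¹ * b * g) := by rw [c_def, c_def]; group
    rwa [e1]
  have hsR : ∀ v ∈ cj g (N i), ∀ b ∈ BB V F L, cm v b ≠ 1 → ∀ y ∈ cj g (R i), ∃ v' ∈ cj g (N i), cm v' b = y := by
    intro v hv b hbb hne y hy
    rw [mem_cj] at hv hy
    have e1 : g⁻¹ * cm v b * g = cm (g⁻¹ * v * g) (g⁻¹ * b * g) := by rw [c_def, c_def]; group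
    obtain ⟨v', hv', h1⟩ := hsur _ (ht b hbb).1 (ht b hbb).2 i _ hv (fun h0 => hne (by
      rw [← e1] at h0
      have e2 : cm v b = g * (g⁻¹ * cm v b * g) * g⁻¹ := by group
      rw [e2, h0, mul_one, mul_inv_cancel])) _ hy
    refine ⟨g * v' * g⁻¹, ?_, ?_⟩
    · rw [mem_cj]
      have e2 : g⁻¹ * (g * v' * g⁻¹) * g = v' := by group
      rwa [e2]
    · have e2 : cm (g * v' * g⁻¹) b = g * cm v' (g⁻¹ * b * g) * g⁻¹ := by rw [c_def, c_def]; group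
      rw [e2, h1]; group
  have heV : e ∈ V := hNV he
  have hBB := h.B_le_BB
  -- `I = L F`
  have hspan : ∀ y ∈ V ⊓ B, ∃ b ∈ B, (cm e b)⁻¹ * y ∈ F := fun y hy => h.bh.surj heV heE hy
  have hI : V ⊓ B = L ⊔ F := by
    refine le_antisymm (fun y hy => ?_) (sup_le h.L_le_I h.bh.F_le_I)
    obtain ⟨b, hbB, hyF⟩ := hspan y hy
    have e1 : y = cm e b * ((cm e b)⁻¹ * y) := by group
    rw [e1]
    exact mul_mem ((le_sup_left : L ≤ _) (hRL' (hcR e he b (hBB hbB)))) ((le_sup_right : F ≤ _) hyF)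
  obtain ⟨b₁, hb₁, hb₁N⟩ := h.exists_b
  have hne1 : cm e b₁ ≠ 1 := by
    intro h0
    apply hb₁N
    refine h.bh.mem_NN_of_c heV heE hb₁ ?_
    rw [h0]
    exact one_mem _
  -- `R^g ∩ F = 1`
  have hRF : cj g (R i) ⊓ F = ⊥ := by
    have h1 : F.relIndex (V ⊓ B) ≤ F.relIndex (cj g (R i)) := by
      refine Pas.relIndex_le_of_span fun y hy => ?_
      obtain ⟨b, hbB, hyF⟩ := hspan y hy
      exact ⟨cm e b, hcR e he b (hBB hbB), h.bh.c_memI heV hbB, hyF⟩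
    have h2 : Nat.card (cj g (R i)) = F.relIndex L := by
      rw [ChoiceBase.card_cj, h.card_pts (h.pts_eq ▸ hR i), h.card_rho hFF]
    have h3 : F.relIndex L ≤ F.relIndex (V ⊓ B) := relIndex_le_of_le_right h.L_le_I (BetaFF.rne _ _)
    have h4 := NOThreeL.Star.rel_mul_card (cj g (R i)) F
    have h5 : Nat.card (cj g (R i)) ≤ F.relIndex (cj g (R i)) := by rw [h2]; exact h3.trans h1
    have h6 : 0 < Nat.card ↥(cj g (R i) ⊓ F) := Nat.card_pos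
    have h7 : 0 < F.relIndex (cj g (R i)) := Nat.pos_of_ne_zero (BetaFF.rne _ _)
    rw [← Subgroup.card_eq_one]
    by_contra hne
    have h8 : 2 ≤ Nat.card ↥(cj g (R i) ⊓ F) := by omega
    have h9 := Nat.mul_le_mul_left (F.relIndex (cj g (R i))) h8
    rw [h4] at h9
    omega
  refine ⟨R i, hR i, hI, hRL', hRF, ?_, ?_⟩
  · intro v hv b hbb
    have hbW : b ∈ Flat.WW V F := hbb.1
    have hb₁W : b₁ ∈ Flat.WW V F := h.bh.le_W hb₁
    -- `v ∈ N^g E`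
    obtain ⟨b₂, hb₂, h1⟩ := hspan _ (h.bh.c_memI hv hb₁)
    obtain ⟨n, hn, h2⟩ := hsR e he b₁ (hBB hb₁) hne1 _ (hcR e he b₂ (hBB hb₂))
    have hnV := hNV hn
    have h3 : n⁻¹ * v ∈ Flat.EE V F := by
      refine h.bh.mem_E_of_c (mul_mem (inv_mem hnV) hv) hb₁ hb₁N ?_
      rw [h.hyp.c_mul_left (inv_mem hnV) hv hb₁W, h.hyp.c_inv_left hnV hb₁W, h2]
      exact h1
    have h4 : cm v b = cm n b * cm (n⁻¹ * v) b := by
      rw [← h.hyp.c_mul_left hnV h3.1 hbW, mul_inv_cancel_left]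
    obtain ⟨s, hs, h5⟩ := h.hyp.surj heV heE h3
    have h6 : cm (cm e s) b = cm (n⁻¹ * v) b :=
      h.hyp.c_congr_left (h.hyp.c_memV heV hs) h3.1 hbW (h.hyp.inv_mul_mem (h.hyp.c_memV heV hs) h3.1 h5)
    rw [h4, ← h6, h.hyp.beta_comm heV hs hbW]
    exact mul_mem ((le_sup_left : cj g (R i) ≤ _) (hcR n hn b hbb))
      ((le_sup_right : ⁅L, Flat.WW V F⁆ ≤ _) (commutator_mem_commutator (hRL' (hcR e he b hbb)) hs))
  · intro y hy
    obtain ⟨v, hv, h1⟩ := hsR e he b₁ (hBB hb₁) hne1 y hy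
    exact ⟨v, hNV hv, b₁, hBB hb₁, h1⟩

/-- **THEOREM ACT.** -/
theorem eq (hFF : StmtM.{u}) : zl (S : Subgroup G) P = zl (S : Subgroup G) P₀ := by
  obtain ⟨g₀, hg₀, hgen₀, -, -⟩ := (h.tl₀ hFF).gen
  obtain ⟨g, hg, hgen, htop, -⟩ := (h.symm.tl₀ hFF).gen
  by_cases hb₀ : MulAut.conj g₀ • zl (S : Subgroup G) P ≤ Flat.EE V F
  · exact h.eq_of_le hFF (h.good_le hFF hg₀ hgen₀ hb₀)
  by_cases hb : MulAut.conj g • zl (S : Subgroup G) P₀ ≤ Flat.EE V F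
  · exact (h.symm.eq_of_le hFF (h.symm.good_le hFF hg hgen hb)).symm
  -- both bad
  obtain ⟨R, -, -, hRL, -, hall, -⟩ := h.bad hFF hg₀ hb₀
  obtain ⟨R', hR', hI, hRd, hRF, -, hex⟩ := h.symm.bad hFF hg hb
  refine h.eq_of_le hFF ?_
  have hρ := h.rho_le
  -- `R'^g ≤ L`
  have h1 : cj g R' ≤ zl (S : Subgroup G) P₀ := by
    intro y hy
    obtain ⟨v, hv, b, hbb, rfl⟩ := hex y hy
    have h2 : b ∈ BB V F (zl (S : Subgroup G) P₀) := by
      refine ⟨hbb.1, mem_centralizer_iff.2 fun l hl => ?_⟩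
      have h3 : l ∈ zl (S : Subgroup G) P ⊔ F := by
        rw [← hI]; exact h.L_le_I hl
      have h4 : zl (S : Subgroup G) P ⊔ F ≤ centralizer ({b} : Set G) := by
        refine sup_le (fun x hx => ?_) fun x hx => ?_
        · rw [mem_centralizer_singleton_iff]
          exact mem_centralizer_iff.1 hbb.2 x hx
        · rw [mem_centralizer_singleton_iff]
          exact Flat.Hyp.F_comm hx (Flat.Hyp.W_le_X hbb.1)
      exact mem_centralizer_singleton_iff.1 (h4 h3)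
    exact (sup_le hRL hρ) (hall v hv b h2)
  -- `R'^g` does not commute with `W`
  have h2 : ¬ cj g R' ≤ centralizer (Flat.WW V F : Set G) := by
    intro hcon
    have h3 : cj g R' ≤ F := by
      rw [← h.hyp.cent_VW]
      exact le_inf (h1.trans h.a₀.LV) hcon
    have h4 : cj g R' = ⊥ := by
      rw [← hRF]
      exact (inf_eq_left.2 h3).symm
    have h5 : R' = ⊥ := by
      rw [← ChoiceBase.cj_inv_cj g R', h4]
      exact map_bot _
    obtain ⟨s, -, h6⟩ := hR'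
    rw [h5] at h6
    apply h.rho_ne
    rw [← ChoiceBase.cj_inv_cj s ⁅zl (S : Subgroup G) P₀, Flat.WW V F⁆, ← h6]
    exact map_bot _
  have hR'' : R' ∈ pts (zl (S : Subgroup G) P) (S : Subgroup G) (Flat.WW V F) := by
    rw [h.pts_eq]; exact hR'
  refine (htop R' hR'' h2).trans (iSup_le fun s => ?_)
  have h3 : cj g R' ⊔ ⁅zl (S : Subgroup G) P, Flat.WW V F⁆ ≤ zl (S : Subgroup G) P₀ :=
    sup_le h1 (h.rho_eq ▸ hρ)
  have h4 := cj_mono (s : G) h3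
  rwa [ChoiceBase.cj_eq_of_mem_normalizer (h.a₀.PL (h.a₀.SP s.2))] at h4

end AA

end Cfsg.Agent.Omega.NO3S.ActT
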