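import Cfsg.Agent.Omega.NO3S.ActT.AA

/-!
# THEOREM ACT (#20049, helper365) over the front of the W-stage

* `WFr.aa` : the structure `AA` for two active types `P₀, P` of the front `WFr`, `B` the group of the good lines at
  distance `≤ n`, `n ≥ 1`;
* `WFr.act_eq` **(THEOREM ACT)** : `V_P = V_{P₀}`.
-/

set_option autoImplicit false
set_option linter.unusedSectionVars false

namespace Cfsg.Agent.Omega.NO3S.Pas

open Subgroup Cfsg Cfsg.Agent.ZN Cfsg.Agent.Omega.MinPar Cfsg.Agent.Omega.Frame Cfsg.Agent.Omega.FrameNOFF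
open Cfsg.Agent.Omega.NOThreeL.Low (Fr Ch BB)
open Cfsg.Agent.Omega.FrameFF (cv)
open scoped Pointwise

universe u

variable {G : Type u} [Group G] [Finite G] {S : Sylow 2 G} {M P₀ P V F : Subgroup G} {n : ℕ}

/-- `n ≥ 1`: the lines `V_R^p`, `p ∈ R'`, which are in `E` are in `B`; also `V_R ≤ B`. -/
theorem WFr.good_le_BL (w : WFr S M V F) (hn : 1 ≤ n) {R R' : Subgroup G} (hR : IsParS (S : Subgroup G) R)
    (hR' : IsParS (S : Subgroup G) R') {p : G} (hp : p ∈ R')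
    (hE : MulAut.conj p • zl (S : Subgroup G) R ≤ NOne.Flat.EE V F) :
    MulAut.conj p • zl (S : Subgroup G) R ≤ BL M (S : Subgroup G) V F n :=
  (Fr.le_BB' (Fr.mem_Gd hn (w.ch_par hR' hp) hR hE)).trans le_sup_left

theorem WFr.zl_le_BL' (w : WFr S M V F) (n : ℕ) {R : Subgroup G} (hR : IsParS (S : Subgroup G) R) :
    zl (S : Subgroup G) R ≤ BL M (S : Subgroup G) V F n := by
  have h1 : MulAut.conj (1 : G) • zl (S : Subgroup G) R ≤ NOne.Flat.EE V F := by
    rw [map_one, one_smul]; exact w.zl_le_E hR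
  have h2 := (Fr.le_BB' (Fr.mem_Gd (Nat.zero_le n) w.ch_one hR h1)).trans
    (le_sup_left : BB M (S : Subgroup G) V F n ≤ BL M (S : Subgroup G) V F n)
  rwa [map_one, one_smul] at h2

/-- Two active types over the front. -/
theorem WFr.aa (w : WFr S M V F) (h : Fr S M V F n) (hn : 1 ≤ n) (hk : Key V F (BL M (S : Subgroup G) V F n))
    (hP₀ : IsParS (S : Subgroup G) P₀) (hcv₀ : cv (S : Subgroup G) P₀ = ⊥) (hact₀ : ¬ NOne.Flat.WW V F ≤ o2 P₀)
    (hP : IsParS (S : Subgroup G) P) (hcv : cv (S : Subgroup G) P = ⊥) (hact : ¬ NOne.Flat.WW V F ≤ o2 P) :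
    ActT.AA S P₀ P V F (BL M (S : Subgroup G) V F n) where
  a₀ := w.act hP₀ hcv₀ hact₀
  a := w.act hP hcv hact
  bh := bh h
  LB := w.zl_le_BL' n hP₀
  cB := w.zl_le_BL' n hP
  hk := hk
  good₀ := fun _ hg hE => w.good_le_BL hn hP hP₀ hg hE
  good := fun _ hg hE => w.good_le_BL hn hP₀ hP hg hE

/-- **THEOREM ACT**: two active types (`W ≰ O₂(P)`) with `C_Z(P) = 1` have the same line. -/
theorem WFr.act_eq (w : WFr S M V F) (h : Fr S M V F n) (hn : 1 ≤ n) (hFF : FFThm.StmtM.{u})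
    (hk : Key V F (BL M (S : Subgroup G) V F n))
    (hP₀ : IsParS (S : Subgroup G) P₀) (hcv₀ : cv (S : Subgroup G) P₀ = ⊥) (hact₀ : ¬ NOne.Flat.WW V F ≤ o2 P₀)
    (hP : IsParS (S : Subgroup G) P) (hcv : cv (S : Subgroup G) P = ⊥) (hact : ¬ NOne.Flat.WW V F ≤ o2 P) :
    zl (S : Subgroup G) P = zl (S : Subgroup G) P₀ :=
  (w.aa h hn hk hP₀ hcv₀ hact₀ hP hcv hact).eq hFF

end Cfsg.Agent.Omega.NO3S.Pas
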