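import Cfsg.Agent.Omega.NO3S.ActT.TDSym
import Cfsg.Agent.Omega.NO3S.ActT.Inst

/-!
# Active types have `C_Z(P) = 1` (helper365, #20924 (0), #21048)

`V` FLAT over the bad line `F`, the KEY, `P₀` an active type with `C_Z(P₀) = 1`.

* `AZ.cv_eq` : `C_{V_P}(O²(P)) = 1` for every active type `P` with `V_P ≤ B`;
* `WFr.cv_eq` : the same over the front;
* `WFr.act_eq'` **(THEOREM ACT)** : `V_P = V_{P₀}` for ALL active types `P`.
-/

set_option autoImplicit false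
set_option linter.unusedSectionVars false

namespace Cfsg.Agent.Omega.NO3S.ActT

open Subgroup Cfsg Cfsg.Agent.ZN
open Cfsg.Agent.ZN.ChoiceBase (cj mem_cj cj_mono)
open Cfsg.Agent.Omega.MinPar
open Cfsg.Agent.Omega.FFThm (StmtM OffM ElemM relIndex_le_iff)
open Cfsg.Agent.Omega.FrameFF (cv)
open Cfsg.Agent.Omega.NOThreeL.NF (MinOffM RP pts)
open Cfsg.Agent.Omega.NOThreeL.NF.NatR (Const)
open Cfsg.Agent.Omega.NOThreeL.Low.Key (BH)
open Cfsg.Agent.Omega.NOne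
open Cfsg.Agent.Omega.NOne.NearFF (c_def)
open Cfsg.Agent.MinSimple.VModule (oddGen le_normalizer_oddGen)
open scoped Pointwise commutatorElement

universe u

local notation "cm" => Cfsg.Agent.Omega.NOne.NearFF.c

variable {G : Type u} [Group G] [Finite G]

/-- the KEY gives constant commutators -/
theorem const_of_key {V F B X : Subgroup G} (bh : BH V F B) (hk : Pas.Key V F B) (hX : X ≤ V ⊓ B) :
    Const X (Flat.WW V F) := by
  intro x hx hxc y hy hyc a ha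
  have hn : ∀ z : G, z ∉ centralizer (Flat.WW V F : Set G) → z ∉ F := by
    intro z hz hzF
    apply hz
    rw [mem_centralizer_iff]
    exact fun w hw => (Flat.Hyp.F_comm hzF (Flat.Hyp.W_le_X hw)).symm
  obtain ⟨b, hb, hbN⟩ := bh.exists_not_mem_NN fun hle => hn x hxc (hle (hX hx))
  obtain ⟨s, hs, h1⟩ := (hk y (hX hy) (hn y hyc) b hb hbN _).2 ((hk x (hX hx) (hn x hxc) b hb hbN _).1 ⟨a, ha, rfl⟩)
  refine ⟨s, hs, ?_⟩
  have e1 : a * x * a⁻¹ * x⁻¹ = (cm x a)⁻¹ := by rw [c_def]; group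
  have e2 : s * y * s⁻¹ * y⁻¹ = (cm y s)⁻¹ := by rw [c_def]; group
  rw [e1, e2, h1]

/-- `P` normalises `C_{V_P}(O²(P))` -/
theorem P_norm_cv (S P : Subgroup G) : P ≤ normalizer (cv S P : Set G) := by
  have key : ∀ g ∈ P, ∀ x ∈ cv S P, g * x * g⁻¹ ∈ cv S P := by
    intro g hg x hx
    refine mem_inf.2 ⟨(mem_normalizer_iff.1 (MinSimple.VModule.le_normalizer_zl S P hg) x).1 (mem_inf.1 hx).1, ?_⟩
    rw [mem_centralizer_iff]
    intro y hy
    have hy' : g⁻¹ * y * g⁻¹⁻¹ ∈ oddGen P :=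
      (mem_normalizer_iff.1 (le_normalizer_oddGen P (inv_mem hg)) y).1 hy
    have h1 := mem_centralizer_iff.1 (mem_inf.1 hx).2 _ hy'
    calc y * (g * x * g⁻¹) = g * ((g⁻¹ * y * g⁻¹⁻¹) * x) * g⁻¹ := by group
      _ = g * (x * (g⁻¹ * y * g⁻¹⁻¹)) * g⁻¹ := by rw [h1]
      _ = g * x * g⁻¹ * y := by group
  intro g hg
  rw [mem_normalizer_iff]
  intro x
  refine ⟨key g hg x, fun hx => ?_⟩
  have h1 := key _ (inv_mem hg) _ hx
  have e : g⁻¹ * (g * x * g⁻¹) * g⁻¹⁻¹ = x := by group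
  rwa [e] at h1

/-- **`TD` from the FF theorem.** -/
theorem td_of (hFF : StmtM.{u}) {S : Sylow 2 G} {P A : Subgroup G} (hc : IsCharacteristicTwoType G)
    (hP : IsParS (S : Subgroup G) P) (hAS : A ≤ (S : Subgroup G)) (hoff : OffM (zl (S : Subgroup G) P) A)
    (hcon : Const (zl (S : Subgroup G) P) A)
    (hq : ∀ v ∈ zl (S : Subgroup G) P, ∀ a ∈ A, ∀ b ∈ A, cm v a * b = b * cm v a) :
    TD (S : Subgroup G) P A (cv (S : Subgroup G) P) := by
  have hSP := hP.le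
  have hDW : cv (S : Subgroup G) P ≤ zl (S : Subgroup G) P := inf_le_left
  have hDn := P_norm_cv (S : Subgroup G) P
  have hPV : P ≤ normalizer (zl (S : Subgroup G) P : Set G) := le_normalizer_zl _ _
  obtain ⟨-, hcl⟩ := hFF G (S : Subgroup G) P (MinSimple.EmptyTI.syl_of_le hSP) hP.toIsMinPar (hP.isLoc.char2 S hc)
    ⟨A, hAS.trans hSP, hoff⟩
  rcases hcl with ⟨K, _, _, _, k, hk, ⟨M⟩⟩ | ⟨k, m, hk, hm, ⟨M⟩⟩
  · have hne : ∃ g ∈ P, ∃ v ∈ zl (S : Subgroup G) P, g * v * g⁻¹ * v⁻¹ ∉ cv (S : Subgroup G) P := by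
      obtain ⟨t, ht, hU'⟩ := M.unip fun _ => 1
      have hU : U M t fun _ => 1 := hU'
      obtain ⟨v, hv, hev⟩ := M.surj fun _ => ![0, 1]
      refine ⟨t, hSP ht, v, hv, fun h1 => ?_⟩
      have h2 := (M.ker _ (hDW h1)).2 h1
      have hm1 : t * v * t⁻¹ ∈ zl (S : Subgroup G) P := (mem_normalizer_iff.1 (hPV (hSP ht)) v).1 hv
      rw [M.mul _ hm1 _ (inv_mem hv), ne_inv hv] at h2
      have h3 := congrFun (congrFun h2 ⟨0, hk⟩) 0
      rw [Pi.add_apply, hU.at hv, hev] at h3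
      simp at h3
    exact td_nat M hSP hDW (fun g hg hU => cent_of_triv hc hP hDn hne hg
      (fun v hv => U.mem_D (M := M) hPV hSP (hSP hg) hU hv) hU.2) hAS hoff hcon hq
  · have hne : ∃ g ∈ P, ∃ v ∈ zl (S : Subgroup G) P, g * v * g⁻¹ * v⁻¹ ∉ cv (S : Subgroup G) P := by
      have h01 : (0 : Fin (2 ^ m + 1)) ≠ 1 := by
        intro h
        have h1 := congrArg Fin.val h
        have h2 : 2 ≤ 2 ^ m := by
          calc 2 = 2 ^ 1 := by norm_num
            _ ≤ 2 ^ m := Nat.pow_le_pow_right (by norm_num) (by omega)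
        rw [Fin.val_zero, Fin.val_one', Nat.mod_eq_of_lt (by omega)] at h1
        exact zero_ne_one h1
      have hpq : ((⟨0, hk⟩, 0) : Omega.Half.SymA.Pt k m) ≠ (⟨0, hk⟩, 1) := fun h => h01 (congrArg Prod.snd h)
      obtain ⟨g, hg, hac, -⟩ := M.lift (Function.update 1 ⟨0, hk⟩ (Equiv.swap 0 1))
      have h1 := SD.mv_pm M.toSymK hac
      have h2 := Omega.Half.SymA.pm_swap (k := k) (m := m) (p := (⟨0, hk⟩, 0)) (q := (⟨0, hk⟩, 1)) rfl
      change Omega.Half.SymA.pm 1 (Function.update 1 ⟨0, hk⟩ (Equiv.swap 0 1)) = _ at h2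
      rw [h2] at h1
      obtain ⟨v, hv, hv1, hv2⟩ := SD.sep M.toSymK (by omega) hpq
      refine ⟨g, hg, v, hv, fun h3 => ?_⟩
      have h4 := (M.ker _ (hDW h3)).2 h3
      have h5 : SD.E M.toSymK (g * v * g⁻¹ * v⁻¹) (⟨0, hk⟩, 1) = 0 := by
        change M.e _ ⟨0, hk⟩ 1 = 0
        rw [h4]; rfl
      have hm1 : g * v * g⁻¹ ∈ zl (S : Subgroup G) P := (mem_normalizer_iff.1 (hPV hg) v).1 hv
      have h6 := h1 v hv (⟨0, hk⟩, 0)
      rw [Equiv.swap_apply_left] at h6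
      rw [SD.E_mul _ hm1 (inv_mem hv), SD.E_inv _ hv, h6, hv1, hv2, add_zero] at h5
      exact one_ne_zero h5
    refine td_sym M hSP S.isPGroup' (by omega) hDW (fun g hg hπ hgD => cent_of_triv hc hP hDn hne hg
      (fun v hv => ?_) hgD) hAS hoff hcon hq
    have hm1 : g * v * g⁻¹ ∈ zl (S : Subgroup G) P := (mem_normalizer_iff.1 (hPV (hSP hg)) v).1 hv
    refine (M.ker _ (mul_mem hm1 (inv_mem hv))).1 ?_
    funext i x
    change SD.E M.toSymK (g * v * g⁻¹ * v⁻¹) (i, x) = 0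
    have h6 := hπ v hv (i, x)
    rw [SD.E_mul _ hm1 (inv_mem hv), SD.E_inv _ hv]
    have h7 : SD.E M.toSymK (g * v * g⁻¹) (i, x) = SD.E M.toSymK v (i, x) := h6
    rw [h7]
    exact CharTwo.add_self_eq_zero _

/-- `P₀` active with `C_Z(P₀) = 1`, `P` active. -/
structure AZ (S : Sylow 2 G) (P₀ P V F B : Subgroup G) : Prop where
  a₀ : BetaFF.Act S P₀ V F
  par : IsParS (S : Subgroup G) P
  LE : zl (S : Subgroup G) P ≤ Flat.EE V F
  mov : ¬ Flat.WW V F ≤ centralizer (zl (S : Subgroup G) P : Set G)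
  bh : BH V F B
  LB : zl (S : Subgroup G) P₀ ≤ B
  cB : zl (S : Subgroup G) P ≤ B
  hk : Pas.Key V F B

/-- **Active types have `C_{V_P}(O²(P)) = 1`.** -/
theorem AZ.cv_eq {S : Sylow 2 G} {P₀ P V F B : Subgroup G} (h : AZ S P₀ P V F B) (hFF : StmtM.{u}) :
    cv (S : Subgroup G) P = ⊥ := by
  have hc := h.a₀.char2
  have hyp := h.bh.toHyp
  have hVI : zl (S : Subgroup G) P ≤ V ⊓ B := le_inf (h.LE.trans inf_le_left) h.cB
  have hLI : zl (S : Subgroup G) P₀ ≤ V ⊓ B := le_inf h.a₀.LV h.LB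
  have hcV : zl (S : Subgroup G) P ≤ V := h.LE.trans inf_le_left
  have hoff : OffM (zl (S : Subgroup G) P) (Flat.WW V F) :=
    { sq := fun a ha => centralizer_le hcV (hyp.elemM_W.sq a ha)
      comm := fun a ha b hb => centralizer_le hcV (hyp.elemM_W.comm a ha b hb)
      ne := h.mov
      le := relIndex_le_iff.2 (hyp.off_of_le_all h.LE) }
  obtain ⟨K, hDK, hρK, hs⟩ := (td_of hFF hc h.par h.a₀.WS hoff (const_of_key h.bh h.hk hVI)
    (fun v hv a ha b hb => Flat.Hyp.F_comm (hyp.comm_EW (h.LE hv) ha) (Flat.Hyp.W_le_X hb))).coord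
  obtain ⟨hmin, hrp, -⟩ := pack hFF h.a₀ (const_of_key h.bh h.hk hLI)
  -- `ρ`
  have hρ : ⁅zl (S : Subgroup G) P, Flat.WW V F⁆ = ⁅zl (S : Subgroup G) P₀, Flat.WW V F⁆ := by
    apply le_antisymm
    · rw [commutator_le]
      exact fun x hx w hw => Pas.Key.mem h.bh h.hk hLI h.a₀.mov (hVI hx) hw
    · rw [commutator_le]
      exact fun x hx w hw => Pas.Key.mem h.bh h.hk hVI h.mov (hLI hx) hw
  by_contra hne
  have hDS : cv (S : Subgroup G) P ≤ (S : Subgroup G) :=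
    ((inf_le_left : cv (S : Subgroup G) P ≤ _).trans (h.LE.trans Flat.Hyp.E_le_W)).trans h.a₀.WS
  obtain ⟨z, hz, hz1, hzD⟩ := NOThreeL.FFB.exists_zc hDS
    (fun x hx => hyp.sq x (hcV ((inf_le_left : cv (S : Subgroup G) P ≤ _) hx)))
    (h.par.le.trans (P_norm_cv _ _)) hne
  obtain ⟨hz2, hz3⟩ := hrp.zfull _ hmin z hz hz1
  set ρ := ⁅zl (S : Subgroup G) P₀, Flat.WW V F⁆ with hρd
  have hρp : ρ ∈ pts (zl (S : Subgroup G) P₀) (S : Subgroup G) (Flat.WW V F) :=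
    ⟨1, one_mem _, by rw [ChoiceBase.cj_one]⟩
  have hPL : ∀ r ∈ pts (zl (S : Subgroup G) P₀) (S : Subgroup G) (Flat.WW V F), r ≤ V := by
    rintro r ⟨s, hs, rfl⟩
    have h1 : ρ ≤ zl (S : Subgroup G) P₀ := by
      rw [hρd, commutator_le]
      intro x hx w hw
      have h2 : w * x⁻¹ * w⁻¹ ∈ zl (S : Subgroup G) P₀ :=
        (mem_normalizer_iff.1 (h.a₀.PL (h.a₀.WP hw)) _).1 (inv_mem hx)
      have e : ⁅x, w⁆ = x * (w * x⁻¹ * w⁻¹) := by rw [commutatorElement_def]; group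
      rw [e]
      exact mul_mem hx h2
    have h2 := cj_mono s h1
    rw [ChoiceBase.cj_eq_of_mem_normalizer (h.a₀.PL (h.a₀.SP hs))] at h2
    exact h2.trans h.a₀.LV
  set R' := sSup (pts (zl (S : Subgroup G) P₀) (S : Subgroup G) (Flat.WW V F) \ {ρ}) with hR'
  have hR'K : R' ≤ K := by
    refine sSup_le ?_
    rintro r ⟨⟨s, hs', rfl⟩, hr2⟩
    have h1 := hs s hs'
    rw [hρ] at h1
    exact h1 hr2
  have hR'V : R' ≤ V := sSup_le fun r hr => hPL r hr.1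
  have hsup : sSup (pts (zl (S : Subgroup G) P₀) (S : Subgroup G) (Flat.WW V F)) ≤ R' ⊔ ρ := by
    refine sSup_le fun r hr => ?_
    by_cases h1 : r = ρ
    · rw [h1]; exact le_sup_right
    · exact (le_sSup ⟨hr, h1⟩ : r ≤ R').trans le_sup_left
  obtain ⟨y, hy, x, hx, hxy⟩ := Pas.mem_sup_of_norm
    (((hPL ρ hρp).trans (hyp.comm.trans (centralizer_le hR'V))).trans (centralizer_le_normalizer _)) (hsup hz2)
  have hx1 : x = 1 := by
    have h1 : x ∈ K := by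
      have e : x = y⁻¹ * z := by rw [← hxy]; group
      rw [e]
      exact mul_mem (inv_mem (hR'K hy)) (hDK hzD)
    have h2 : x ∈ ⁅zl (S : Subgroup G) P, Flat.WW V F⁆ ⊓ K := ⟨by rw [hρ]; exact hx, h1⟩
    rwa [hρK, mem_bot] at h2
  refine hz3 ρ hρp ?_
  rw [← hxy, hx1, mul_one]
  exact hy

end Cfsg.Agent.Omega.NO3S.ActT

namespace Cfsg.Agent.Omega.NO3S.Pas

open Subgroup Cfsg Cfsg.Agent.ZN Cfsg.Agent.Omega.MinPar Cfsg.Agent.Omega.Frame Cfsg.Agent.Omega.FrameNOFF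
open Cfsg.Agent.Omega.NOThreeL.Low (Fr Ch BB)
open Cfsg.Agent.Omega.FrameFF (cv)
open scoped Pointwise

universe u

variable {G : Type u} [Group G] [Finite G] {S : Sylow 2 G} {M P₀ P V F : Subgroup G} {n : ℕ}

/-- **If one active type has `C_Z(P₀) = 1`, all active types have `C_{V_P}(O²(P)) = 1`.** -/
theorem WFr.cv_eq (w : WFr S M V F) (h : Fr S M V F n) (hFF : FFThm.StmtM.{u})
    (hk : Key V F (BL M (S : Subgroup G) V F n))
    (hP₀ : IsParS (S : Subgroup G) P₀) (hcv₀ : cv (S : Subgroup G) P₀ = ⊥) (hact₀ : ¬ NOne.Flat.WW V F ≤ o2 P₀)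
    (hP : IsParS (S : Subgroup G) P) (hact : ¬ NOne.Flat.WW V F ≤ o2 P) : cv (S : Subgroup G) P = ⊥ :=
  ActT.AZ.cv_eq (P₀ := P₀) (B := BL M (S : Subgroup G) V F n)
    { a₀ := w.act hP₀ hcv₀ hact₀
      par := hP
      LE := w.zl_le_E hP
      mov := w.mov hP hact
      bh := bh h
      LB := w.zl_le_BL' n hP₀
      cB := w.zl_le_BL' n hP
      hk := hk } hFF

/-- **THEOREM ACT**: if one active type has `C_Z(P₀) = 1`, all active types have the same line. -/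
theorem WFr.act_eq' (w : WFr S M V F) (h : Fr S M V F n) (hn : 1 ≤ n) (hFF : FFThm.StmtM.{u})
    (hk : Key V F (BL M (S : Subgroup G) V F n))
    (hP₀ : IsParS (S : Subgroup G) P₀) (hcv₀ : cv (S : Subgroup G) P₀ = ⊥) (hact₀ : ¬ NOne.Flat.WW V F ≤ o2 P₀)
    (hP : IsParS (S : Subgroup G) P) (hact : ¬ NOne.Flat.WW V F ≤ o2 P) :
    zl (S : Subgroup G) P = zl (S : Subgroup G) P₀ :=
  w.act_eq h hn hFF hk hP₀ hcv₀ hact₀ hP (w.cv_eq h hFF hk hP₀ hcv₀ hact₀ hP hact) hact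

end Cfsg.Agent.Omega.NO3S.Pas
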