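import Cfsg.Agent.Omega.NO3S.ActT.TL
import Cfsg.Agent.Omega.NOThreeL.Low.PmSym

/-!
# THEOREM ACT (#20049, helper365): the interface `TL` for even-subset modules
-/

set_option autoImplicit false
set_option linter.unusedSectionVars false

namespace Cfsg.Agent.Omega.NO3S.ActT

open Subgroup Cfsg Cfsg.Agent.ZN Cfsg.Agent.ZN.ChoiceBase
open Cfsg.Agent.Omega.MinPar
open Cfsg.Agent.Omega.FFThm (ElemM OffM NoOverM ConclM SymK SymKM ActsSym)
open Cfsg.Agent.Omega.Half (Amb)
open Cfsg.Agent.Omega.Half.SymA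
open Cfsg.Agent.Omega.NOThreeL.NF.SymRP
open Cfsg.Agent.Omega.NOThreeL.FourLine (mem_zpowers_iff)
open Cfsg.Agent.Omega.NOne.NearFF (c c_def)
open scoped Classical commutatorElement

universe u

variable {G : Type u} [Group G] [Finite G] {S : Sylow 2 G} {P V : Subgroup G} {k m : ℕ}

/-- a vector is the product of pairs `{0, p}` -/
theorem mem_of_pairs (M : SymK (S : Subgroup G) P V ⊥ k m) {D : Subgroup G} {v : G} (hv : v ∈ V)
    (hD : ∀ p : Pt k m, p.2 ≠ 0 → ∀ d, IsC M d (p.1, 0) p → d ∈ D) : v ∈ D := by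
  obtain ⟨n, hn⟩ : ∃ n, (Finset.univ.filter fun p : Pt k m => p.2 ≠ 0 ∧ E M v p ≠ 0).card = n := ⟨_, rfl⟩
  induction n using Nat.strong_induction_on generalizing v with
  | _ n ih =>
    by_cases h0 : ∀ p : Pt k m, p.2 ≠ 0 → E M v p = 0
    · have h1 : v = 1 := by
        refine eq_one M hv fun p => ?_
        by_cases hp : p.2 = 0
        · have h2 := even M hv p.1
          rw [Fin.sum_univ_succ] at h2
          have h3 : ∑ x : Fin (2 ^ m), E M v (p.1, x.succ) = 0 :=
            Finset.sum_eq_zero fun x _ => h0 _ (Fin.succ_ne_zero x)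
          rw [h3, add_zero] at h2
          have h5 : p = (p.1, 0) := Prod.ext rfl hp
          rw [h5]
          exact h2
        · exact h0 p hp
      rw [h1]
      exact one_mem D
    push Not at h0
    obtain ⟨p, hp2, hp⟩ := h0
    obtain ⟨d, hd⟩ := exists_isC (M := M) (p := (p.1, 0)) (q := p) rfl
    have hdD := hD p hp2 d hd
    have hp0 : ((p.1, 0) : Pt k m) ≠ p := fun h => hp2 (congrArg Prod.snd h).symm
    have hvd : v * d ∈ V := mul_mem hv hd.1
    have hE : ∀ r, E M (v * d) r = E M v r + E M d r := fun r => E_mul M hv hd.1 r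
    have e1 : E M (v * d) p = 0 := by
      rw [hE, hd.right hp0, zmod2_ne.1 hp]; rfl
    have e3 : ∀ r : Pt k m, r.2 ≠ 0 → r ≠ p → E M (v * d) r = E M v r := fun r h1 h2 => by
      rw [hE, hd.zero (fun h3 => h1 (congrArg Prod.snd h3)) h2, add_zero]
    have hsub : (Finset.univ.filter fun r : Pt k m => r.2 ≠ 0 ∧ E M (v * d) r ≠ 0) ⊂
        Finset.univ.filter fun r : Pt k m => r.2 ≠ 0 ∧ E M v r ≠ 0 := by
      rw [Finset.ssubset_iff_of_subset]
      · exact ⟨p, by simpa using ⟨hp2, hp⟩, by simp [e1]⟩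
      · intro r hr
        rw [Finset.mem_filter] at hr ⊢
        refine ⟨Finset.mem_univ _, hr.2.1, ?_⟩
        have h1 : r ≠ p := by rintro rfl; exact hr.2.2 e1
        rw [← e3 r hr.2.1 h1]
        exact hr.2.2
    have hlt := Finset.card_lt_card hsub
    rw [hn] at hlt
    have h3 : v * d ∈ D := ih _ hlt hvd rfl
    have h4 := mul_mem h3 (inv_mem hdD)
    rwa [mul_inv_cancel_right] at h4

variable {M : SymK (S : Subgroup G) P V ⊥ k m} (hA : Amb (S : Subgroup G) P V)
include hA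

/-- an element of `S` which centralises the pair `{p, q}` fixes it as a set -/
theorem fix_pair {t : G} (ht : t ∈ (S : Subgroup G)) {π : Equiv.Perm (Pt k m)} (hπ : Mv M t π)
    {p q : Pt k m} (hpq : p ≠ q) {d : G} (hd : IsC M d p q) (hc : t * d = d * t) : π p = p ∨ π p = q := by
  have h1 := hd.conj hA (hA.TH ht) hπ
  have h2 : t * d * t⁻¹ = d := by rw [hc, mul_inv_cancel_right]
  rw [h2] at h1
  by_contra hcon
  push Not at hcon
  have h3 : E M d (π p) = 1 := h1.left (fun h => hpq (π.injective h))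
  rw [hd.zero hcon.1 hcon.2] at h3
  exact zero_ne_one h3

/-- the commutator of `{0, p}` with `t` -/
theorem c_pair (hm : 1 ≤ m) {t : G} (ht : t ∈ (S : Subgroup G)) {π : Equiv.Perm (Pt k m)} (hπ : Mv M t π)
    {p q : Pt k m} (hsw : Sw M p q) {d e : G} (hd : IsC M d p q) (he : IsC M e (p.1, 0) p)
    (hc : t * d = d * t) : c e t = 1 ∨ c e t = d := by
  have htP := hA.TH ht
  have h0 : ((p.1, 0) : Pt k m).2 = 0 := rfl
  have h1 := fix_pair hA ht hπ hsw.1 hd hc
  have h2 : (π p).1 = p.1 := by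
    rcases h1 with h1 | h1
    · rw [h1]
    · rw [h1, hsw.2.1]
  have h3 : π (p.1, 0) = (p.1, 0) := by
    refine Prod.ext ?_ ?_
    · have h4 := hπ.fst hA hm htP (p := (p.1, 0)) (q := p) rfl
      rw [h4, h2]
    · exact (hπ.snd hA hm ht).2 h0
  have h4 := he.conj hA htP hπ
  rw [h3] at h4
  have hi : e⁻¹ = e := by
    have := hA.sq e he.1
    rw [pow_two] at this
    exact inv_eq_of_mul_eq_one_left this
  have e1 : c e t = e * (t * e * t⁻¹) := by
    rw [c_def]
    conv_lhs => rw [hi]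
    group
  rw [e1]
  rcases h1 with h1 | h1
  · left
    rw [h1] at h4
    rw [h4.eq he, ← pow_two, hA.sq e he.1]
  · right
    rw [h1] at h4
    have hm2 : t * e * t⁻¹ ∈ V := hA.conj_mem htP he.1
    refine inj M (mul_mem he.1 hm2) hd.1 fun r => ?_
    rw [E_mul M he.1 hm2, he.2, h4.2, hd.2]
    have h5 : ∀ a b c : ZMod 2, (a + b) + (a + c) = b + c := by decide
    exact h5 _ _ _

omit [Finite G] hA in
theorem c_one_left (t : G) : c 1 t = 1 := by rw [c_def]; group

omit hA in
/-- **`TL` for even-subset modules** -/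
theorem tl_sym (M : SymKM (S : Subgroup G) P (zl (S : Subgroup G) P) ⊥ k m)
    (hA : Amb (S : Subgroup G) P (zl (S : Subgroup G) P)) (hm : 1 ≤ m) (hP : IsParS (S : Subgroup G) P)
    {A : Subgroup G} (hmin : NOThreeL.NF.MinOffM (zl (S : Subgroup G) P) (S : Subgroup G) A) :
    TL (S : Subgroup G) P A := by
  obtain ⟨⟨p, q, had⟩, -⟩ := exists_ad M hA hm hmin
  set N := M.toSymK with hN
  have hSP := hA.TH
  have hmem : ∀ r, r ∈ NOThreeL.NF.pts (zl (S : Subgroup G) P) (S : Subgroup G) A ↔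
      ∃ a b d, Sw N a b ∧ IsC N d a b ∧ r = zpowers d := fun r => had.mem_pts hA hm
  have hsib : ∀ r : Pt k m, ∃ r', r.2 ≠ 0 → Sw N r r' := by
    intro r
    by_cases hr : r.2 = 0
    · exact ⟨r, fun h => absurd hr h⟩
    · obtain ⟨r', h⟩ := exists_sw hA hm had.sw hr
      exact ⟨r', fun _ => h⟩
  choose sb hsb using hsib
  have hd : ∀ r : {r : Pt k m // r.2 ≠ 0}, ∃ d, IsC N d r.1 (sb r.1) := fun r => exists_isC (hsb r.1 r.2).2.1
  choose d hd using hd
  have he : ∀ r : {r : Pt k m // r.2 ≠ 0}, ∃ e, IsC N e (r.1.1, 0) r.1 := fun r => exists_isC rfl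
  choose e he using he
  have hcd : ∀ t, CP (S : Subgroup G) P A t → ∀ r, t * d r = d r * t := fun t ht r =>
    ht _ ((hmem _).2 ⟨r.1, sb r.1, d r, hsb r.1 r.2, hd r, rfl⟩) _ (mem_zpowers _)
  have hsq : ∀ v ∈ zl (S : Subgroup G) P, v * v = 1 := fun v hv => sq_one hA hv
  refine ⟨⟨{r : Pt k m // r.2 ≠ 0}, fun r => zpowers (d r), fun r => zpowers (e r), ?_, ?_, ?_, ?_, ?_⟩, ?_⟩
  · exact fun r => (hmem _).2 ⟨r.1, sb r.1, d r, hsb r.1 r.2, hd r, rfl⟩
  · intro r
    rw [zpowers_le]; exact (he r).1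
  · intro v hv
    refine mem_of_pairs N hv fun r hr d' hd' => ?_
    rw [hd'.eq (he ⟨r, hr⟩)]
    exact (le_iSup (fun r => zpowers (e r)) ⟨r, hr⟩) (mem_zpowers _)
  · intro t ht htc r v hv
    obtain ⟨π, hπ, -⟩ := exists_mv (M := N) (hSP ht)
    rcases (mem_zpowers_iff (hsq _ (he r).1)).1 hv with h1 | h1
    · rw [h1, c_one_left]; exact one_mem _
    · rw [h1]
      rcases c_pair hA hm ht hπ (hsb r.1 r.2) (hd r) (he r) (hcd t htc r) with h2 | h2
      · rw [h2]; exact one_mem _
      · rw [h2]; exact mem_zpowers _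
  · intro t ht htc r v hv hne y hy
    obtain ⟨π, hπ, -⟩ := exists_mv (M := N) (hSP ht)
    rcases (mem_zpowers_iff (hsq _ (he r).1)).1 hv with h1 | h1
    · rw [h1, c_one_left] at hne
      exact absurd rfl hne
    · rw [h1] at hne
      have h2 := (c_pair hA hm ht hπ (hsb r.1 r.2) (hd r) (he r) (hcd t htc r)).resolve_left hne
      rcases (mem_zpowers_iff (hsq _ (hd r).1)).1 hy with h3 | h3
      · exact ⟨1, one_mem _, by rw [h3, c_one_left]⟩
      · exact ⟨e r, mem_zpowers _, by rw [h3, h2]⟩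
  · have hp2 := had.sw.nz hA hm
    have hq2 := had.sw.symm.nz hA hm
    have hpq := had.sw.1
    have hpq1 := had.sw.2.1
    have hp0 : ((p.1, 0) : Pt k m) ≠ p := fun h => hp2 (congrArg Prod.snd h).symm
    have hq0 : q ≠ ((p.1, 0) : Pt k m) := fun h => hq2 (congrArg Prod.snd h)
    obtain ⟨g, hg, hgπ⟩ := exists_swap (M := N) (p := (p.1, 0)) (q := p) rfl
    refine ⟨g, hg, ?_, ?_, ?_⟩
    · obtain ⟨a, ha, haπ⟩ := had.ex
      have h1 := (hgπ.inv hA hg).conj hA (inv_mem hg) haπ (hSP (had.le ha))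
      have e1 : (Equiv.swap (p.1, 0) p)⁻¹ * Equiv.swap p q * (Equiv.swap (p.1, 0) p)⁻¹⁻¹ =
          Equiv.swap ((q.1, 0) : Pt k m) q := by
        rw [← Equiv.swap_apply_apply, Equiv.swap_inv, Equiv.swap_apply_right,
          Equiv.swap_apply_of_ne_of_ne hq0 hpq.symm, hpq1]
      rw [e1] at h1
      have h2 : g⁻¹ * a * g⁻¹⁻¹ ∈ (S : Subgroup G) ⊔ cj g⁻¹ A := by
        refine (le_sup_right : cj g⁻¹ A ≤ _) ?_
        rw [mem_cj]
        have e2 : g⁻¹⁻¹ * (g⁻¹ * a * g⁻¹⁻¹) * g⁻¹ = a := by group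
        rwa [e2]
      have h3 : cj g⁻¹ A ≤ P := by
        rintro _ ⟨b, hb, rfl⟩
        exact mul_mem (mul_mem (inv_mem hg) (hSP (had.le hb))) (inv_mem (inv_mem hg))
      have h4 := NOThreeL.Low.le_of_swap N hA hm (fun p q hp hq => trans_pts S hA hm hp hq) hP
        le_sup_left (sup_le hSP h3) h2 hq2 h1
      have h5 : cj g P = P := cj_eq_of_mem_normalizer (le_normalizer hg)
      have h6 := cj_mono g h4
      have h7 : cj g ((S : Subgroup G) ⊔ cj g⁻¹ A) = cj g (S : Subgroup G) ⊔ cj g (cj g⁻¹ A) := map_sup _ _ _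
      rw [h5, h7, cj_cj_inv] at h6
      exact h6
    · intro r hrr hnc
      obtain ⟨a, b, d', hsw, hd', rfl⟩ := (hmem r).1 hrr
      -- `{a, b} = {p, q}`
      have key : ∀ a b : Pt k m, Sw N a b → IsC N d' a b → a = p →
          IsC N (g * d' * g⁻¹) (p.1, 0) q := by
        rintro a b hsw hd' rfl
        have hb : b = q := hsw.uniq hA S.isPGroup' hm had.sw
        subst hb
        have h1 := hd'.conj hA hg hgπ
        rwa [Equiv.swap_apply_right, Equiv.swap_apply_of_ne_of_ne hq0 hpq.symm] at h1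
      have hcase : IsC N (g * d' * g⁻¹) (p.1, 0) q := by
        by_cases ha : a = p
        · exact key a b hsw hd' ha
        by_cases hb : b = p
        · exact key b a hsw.symm hd'.symm hb
        exfalso
        apply hnc
        have ha0 : a ≠ ((p.1, 0) : Pt k m) := fun h => hsw.nz hA hm (congrArg Prod.snd h)
        have hb0 : b ≠ ((p.1, 0) : Pt k m) := fun h => hsw.symm.nz hA hm (congrArg Prod.snd h)
        have h1 := hd'.conj hA hg hgπ
        rw [Equiv.swap_apply_of_ne_of_ne ha0 ha, Equiv.swap_apply_of_ne_of_ne hb0 hb] at h1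
        have haq : a ≠ q := by
          rintro rfl
          exact hb (hsw.uniq hA S.isPGroup' hm had.sw.symm)
        have hbq : b ≠ q := by
          rintro rfl
          exact ha (hsw.symm.uniq hA S.isPGroup' hm had.sw.symm)
        rw [cj_zpowers, h1.eq hd', zpowers_le, mem_centralizer_iff]
        intro x hx
        rcases had.all x hx with h2 | h2
        · exact (mem_centralizer_iff.1 h2 d' hd'.1).symm
        · have h3 := comm_of_eq hA (hSP (had.le hx)) h2 hd'.1
            (by rw [hd'.zero (Ne.symm ha) (Ne.symm hb), hd'.zero haq.symm hbq.symm])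
          rwa [mul_inv_eq_iff_eq_mul] at h3
      intro v hv
      refine mem_of_pairs N hv fun r hr e' he' => ?_
      obtain ⟨s, hs, π, hπ, h1⟩ := trans_pts S hA hm hq2 hr
      have h2 := hcase.conj hA (hSP hs) hπ
      have h3 : π (p.1, 0) = (r.1, 0) := by
        refine Prod.ext ?_ ((hπ.snd hA hm hs).2 rfl)
        have h4 := hπ.fst hA hm (hSP hs) (p := (p.1, 0)) (q := q) hpq1
        rw [h4, h1]
      rw [h1, h3] at h2
      have h5 : cj s (cj g (zpowers d') ⊔ ⁅zl (S : Subgroup G) P, A⁆) ≤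
          ⨆ s : (S : Subgroup G), cj (s : G) (cj g (zpowers d') ⊔ ⁅zl (S : Subgroup G) P, A⁆) :=
        le_iSup (fun s : (S : Subgroup G) => cj (s : G) (cj g (zpowers d') ⊔ ⁅zl (S : Subgroup G) P, A⁆)) ⟨s, hs⟩
      apply h5
      rw [mem_cj]
      refine (le_sup_left : cj g (zpowers d') ≤ _) ?_
      rw [cj_zpowers]
      have e3 : s⁻¹ * e' * s = g * d' * g⁻¹ := by
        rw [he'.eq h2]; group
      rw [e3]
      exact mem_zpowers _
    · intro x hx hxc hxr
      obtain ⟨d₀, hd₀⟩ := exists_isC (M := N) hpq1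
      rw [had.comm_eq hA hm hd₀, mem_zpowers_iff (hsq _ hd₀.1)] at hxr
      rcases hxr with h1 | h1
      · have h2 : x = g⁻¹ * (g * x * g⁻¹) * g := by group
        rw [h2, h1]; group
      · exfalso
        -- `x = {0, q}`
        have h2 := hd₀.conj hA (inv_mem hg) (hgπ.inv hA hg)
        have h3 : g⁻¹ * d₀ * g⁻¹⁻¹ = x := by rw [← h1]; group
        rw [h3, Equiv.swap_inv, Equiv.swap_apply_right, Equiv.swap_apply_of_ne_of_ne hq0 hpq.symm] at h2
        obtain ⟨a, ha, haπ⟩ := had.ex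
        have h4 : a ∈ centralizer ({x} : Set G) := by
          have h5 := hxc 1 (one_mem _)
          rw [cj_one] at h5
          exact h5 ha
        have h6 := eq_of_comm haπ hx (by rw [mem_centralizer_singleton_iff.1 h4, mul_inv_cancel_right])
        rw [h2.zero hp0.symm hpq, h2.right hq0.symm] at h6
        exact zero_ne_one h6

end Cfsg.Agent.Omega.NO3S.ActT
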