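import Cfsg.Agent.Omega.NO3S.ActT.TLNat
import Cfsg.Agent.Omega.NO3S.ActT.TLSym
import Cfsg.Agent.Omega.NO3S.Act.OneSym
import Cfsg.Agent.Omega.NO3S.BetaFF.Act
import Cfsg.Agent.Omega.NOThreeL.NF.Final

/-!
# THEOREM ACT (#20049, helper365): what the FF theorem gives for an active type with constant commutators
-/

set_option autoImplicit false
set_option linter.unusedSectionVars false

namespace Cfsg.Agent.Omega.NO3S.ActT

open Subgroup Cfsg Cfsg.Agent.ZN
open Cfsg.Agent.Omega.MinPar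
open Cfsg.Agent.Omega.FFThm (StmtM)
open Cfsg.Agent.Omega.NOThreeL.NF (MinOffM RP natRP symRP)
open Cfsg.Agent.Omega.NOThreeL.NF.NatR (Const)
open Cfsg.Agent.Omega.NOne
open Cfsg.Agent.Omega.NO3S.BetaFF

universe u

variable {G : Type u} [Group G] [Finite G]

/-- An active type with constant commutators: `W` is one full root group on `L`. -/
theorem pack (hFF : StmtM.{u}) {S : Sylow 2 G} {P V F : Subgroup G} (h : BetaFF.Act S P V F)
    (hc : Const (zl (S : Subgroup G) P) (Flat.WW V F)) :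
    MinOffM (zl (S : Subgroup G) P) (S : Subgroup G) (Flat.WW V F) ∧ RP (S : Subgroup G) P ∧
      TL (S : Subgroup G) P (Flat.WW V F) := by
  have hcv := h.cv
  have hA := Omega.Half.amb_of_loc h.char2 S h.par.isLoc
  obtain ⟨hno, hcon⟩ := h.ff hFF
  rcases hcon with ⟨K, _, _, _, k, hk, ⟨M⟩⟩ | ⟨k, m, hk, hm, ⟨M⟩⟩
  · have hrp := natRP G h.char2 S P h.par hcv hno K k hk M
    rw [hcv] at M
    have hmin := NOThreeL.NF.NatR.min_of_const hA.HV hA.TH M h.WS h.offM hc
    exact ⟨hmin, hrp, tl_nat M hA S.isPGroup' h.par hmin⟩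
  · have hrp := symRP G h.char2 S P h.par hcv hno k m hk hm M
    rw [hcv] at M
    have hmin := NOThreeL.NF.SymRP.min_of_const M hA (by omega) h.WS h.offM hc
    exact ⟨hmin, hrp, tl_sym M hA (by omega) h.par hmin⟩

end Cfsg.Agent.Omega.NO3S.ActT
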