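import Cfsg.Agent.Omega.NO3S.ActT.TLNat
import Cfsg.Agent.Omega.NO3S.Act.OneNat

/-!
# Active types have `C_Z(P) = 1` (helper365): the interface `TD`, natural modules

`V_P / D` is of type natural^k or `S_n^k`, `D = C_{V_P}(O²(P))`.  `A ≤ S` an offender on `V_P` with constant commutators.

* `TD S P A D` : a hyperplane-like subgroup `K ≥ D` with `[V_P, A] ∩ K = 1`, `[V_P, A]^s ≤ K` if
  `[V_P, A]^s ≠ [V_P, A]`, `s ∈ S`;
* `cent_of_triv` : `s ∈ S` trivial on `V_P / D` and on `D` centralises `V_P`;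
* `td_nat` : `TD` for natural modules.
-/

set_option autoImplicit false
set_option linter.unusedSectionVars false

namespace Cfsg.Agent.Omega.NO3S.ActT

open Subgroup Cfsg Cfsg.Agent.ZN Cfsg.Agent.ZN.ChoiceBase
open Cfsg.Agent.Omega.MinPar
open Cfsg.Agent.Omega.FFThm (NatKM ActsSL OffM)
open Cfsg.Agent.Omega.NOThreeL.NF.NatR (Const)
open Cfsg.Agent.Omega.NatPair (ap ap_zero' ap_one' ext2 ap_mul ap_one)
open Cfsg.Agent.Omega.NOThreeL.NF.NatR (ap_up)
open Cfsg.Agent.Omega.NOne.NearFF (c c_def)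
open Cfsg.Agent.MinSimple.VModule (zc_le_zl)
open Cfsg.Agent.Lib.SL2Mat
open scoped commutatorElement

universe u

variable {G : Type u} [Group G]

/-- The interface for `D ≠ 1`. -/
structure TD (S P A D : Subgroup G) : Prop where
  coord : ∃ K : Subgroup G, D ≤ K ∧ ⁅zl S P, A⁆ ⊓ K = ⊥ ∧
    ∀ s ∈ S, cj s ⁅zl S P, A⁆ ≠ ⁅zl S P, A⁆ → cj s ⁅zl S P, A⁆ ≤ K

/-- `s ∈ S` trivial on `V_P / D` and on `D` centralises `V_P`. -/
theorem cent_of_triv [Finite G] {S : Sylow 2 G} {P D : Subgroup G} (hc : IsCharacteristicTwoType G)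
    (hP : IsParS (S : Subgroup G) P) (hD : P ≤ normalizer (D : Set G))
    (hne : ∃ g ∈ P, ∃ v ∈ zl (S : Subgroup G) P, g * v * g⁻¹ * v⁻¹ ∉ D) {s : G} (hs : s ∈ (S : Subgroup G))
    (h1 : ∀ v ∈ zl (S : Subgroup G) P, s * v * s⁻¹ * v⁻¹ ∈ D) (h2 : ∀ d ∈ D, s * d = d * s) :
    s ∈ centralizer (zl (S : Subgroup G) P : Set G) := by
  have hPV : P ≤ normalizer (zl (S : Subgroup G) P : Set G) := le_normalizer_zl _ _
  have hVP : zl (S : Subgroup G) P ≤ P :=
    ((hP.isLoc.zl_le S hc).trans (zc_le _)).trans ((hP.isLoc.o2_le S).trans hP.le)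
  have nV : ∀ g ∈ P, ∀ v ∈ zl (S : Subgroup G) P, g * v * g⁻¹ ∈ zl (S : Subgroup G) P := fun g hg v hv =>
    (mem_normalizer_iff.1 (hPV hg) v).1 hv
  have nD : ∀ g ∈ P, ∀ d ∈ D, g * d * g⁻¹ ∈ D := fun g hg d hd => (mem_normalizer_iff.1 (hD hg) d).1 hd
  let K : Subgroup G :=
    { carrier := {g | g ∈ P ∧ (∀ v ∈ zl (S : Subgroup G) P, g * v * g⁻¹ * v⁻¹ ∈ D) ∧ ∀ d ∈ D, g * d = d * g}
      mul_mem' := by
        rintro a b ⟨ha, ha1, ha2⟩ ⟨hb, hb1, hb2⟩
        refine ⟨mul_mem ha hb, fun v hv => ?_, fun d hd => ?_⟩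
        · have e : a * b * v * (a * b)⁻¹ * v⁻¹ = a * (b * v * b⁻¹) * a⁻¹ * (b * v * b⁻¹)⁻¹ * (b * v * b⁻¹ * v⁻¹) := by
            group
          rw [e]
          exact mul_mem (ha1 _ (nV b hb v hv)) (hb1 v hv)
        · rw [mul_assoc, hb2 d hd, ← mul_assoc, ha2 d hd, mul_assoc]
      one_mem' := ⟨one_mem _, fun v _ => by
        have e : (1 : G) * v * 1⁻¹ * v⁻¹ = 1 := by group
        rw [e]; exact one_mem _, fun d _ => by rw [one_mul, mul_one]⟩
      inv_mem' := by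
        rintro a ⟨ha, ha1, ha2⟩
        refine ⟨inv_mem ha, fun v hv => ?_, fun d hd => ?_⟩
        · have h3 := nD _ (inv_mem ha) _ (inv_mem (ha1 _ hv))
          have h4 : a⁻¹ * (a * v * a⁻¹ * v⁻¹)⁻¹ * a⁻¹⁻¹ = a⁻¹ * v * a⁻¹⁻¹ * v⁻¹ := by group
          rwa [h4] at h3
        · have h3 := ha2 d hd
          calc a⁻¹ * d = a⁻¹ * (d * a) * a⁻¹ := by group
            _ = a⁻¹ * (a * d) * a⁻¹ := by rw [h3]
            _ = d * a⁻¹ := by group }
  have hK : ∀ g : G, g ∈ K ↔ g ∈ P ∧ (∀ v ∈ zl (S : Subgroup G) P, g * v * g⁻¹ * v⁻¹ ∈ D) ∧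
    ∀ d ∈ D, g * d = d * g := fun g => Iff.rfl
  have hKP : K ≤ P := fun g hg => hg.1
  have hKn' : ∀ x ∈ P, ∀ g ∈ K, x * g * x⁻¹ ∈ K := by
    rintro x hx g ⟨hg, hg1, hg2⟩
    refine ⟨mul_mem (mul_mem hx hg) (inv_mem hx), fun v hv => ?_, fun d hd => ?_⟩
    · have h3 := nD x hx _ (hg1 _ (nV _ (inv_mem hx) v hv))
      have e : x * (g * (x⁻¹ * v * x⁻¹⁻¹) * g⁻¹ * (x⁻¹ * v * x⁻¹⁻¹)⁻¹) * x⁻¹ =
          x * g * x⁻¹ * v * (x * g * x⁻¹)⁻¹ * v⁻¹ := by group
      rwa [e] at h3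
    · have h3 := hg2 _ (nD _ (inv_mem hx) d hd)
      calc x * g * x⁻¹ * d = x * (g * (x⁻¹ * d * x⁻¹⁻¹)) * x⁻¹ := by group
        _ = x * (x⁻¹ * d * x⁻¹⁻¹ * g) * x⁻¹ := by rw [h3]
        _ = d * (x * g * x⁻¹) := by group
  have hKn : P ≤ normalizer (K : Set G) := by
    intro x hx
    rw [mem_normalizer_iff]
    intro g
    refine ⟨hKn' x hx g, fun hg => ?_⟩
    have h3 := hKn' _ (inv_mem hx) _ hg
    have e : x⁻¹ * (x * g * x⁻¹) * x⁻¹⁻¹ = g := by group
    rwa [e] at h3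
  rcases hP.toIsPar.sup_eq_or_inf_le S hKP hKn with h3 | h3
  · exfalso
    obtain ⟨g₀, hg₀, v₀, hv₀, hn⟩ := hne
    apply hn
    -- the vectors which are fixed by `P` modulo `D`
    let T : Subgroup G :=
      { carrier := {v | v ∈ zl (S : Subgroup G) P ∧ ∀ g ∈ P, g * v * g⁻¹ * v⁻¹ ∈ D}
        mul_mem' := by
          rintro a b ⟨ha, ha1⟩ ⟨hb, hb1⟩
          refine ⟨mul_mem ha hb, fun g hg => ?_⟩
          have e : g * (a * b) * g⁻¹ * (a * b)⁻¹ = g * a * g⁻¹ * a⁻¹ * (a * (g * b * g⁻¹ * b⁻¹) * a⁻¹) := by group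
          rw [e]
          exact mul_mem (ha1 g hg) (nD a (hVP ha) _ (hb1 g hg))
        one_mem' := ⟨one_mem _, fun g _ => by
          have e : g * (1 : G) * g⁻¹ * 1⁻¹ = 1 := by group
          rw [e]; exact one_mem _⟩
        inv_mem' := by
          rintro a ⟨ha, ha1⟩
          refine ⟨inv_mem ha, fun g hg => ?_⟩
          have h4 := nD _ (inv_mem (hVP ha)) _ (inv_mem (ha1 g hg))
          have e : a⁻¹ * (g * a * g⁻¹ * a⁻¹)⁻¹ * a⁻¹⁻¹ = g * a⁻¹ * g⁻¹ * a⁻¹⁻¹ := by group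
          rwa [e] at h4 }
    have hT : ∀ v : G, v ∈ T ↔ v ∈ zl (S : Subgroup G) P ∧ ∀ g ∈ P, g * v * g⁻¹ * v⁻¹ ∈ D := fun v => Iff.rfl
    have hTn : P ≤ normalizer (T : Set G) := by
      have key : ∀ x ∈ P, ∀ v ∈ T, x * v * x⁻¹ ∈ T := by
        rintro x hx v ⟨hv, hv1⟩
        refine ⟨nV x hx v hv, fun g hg => ?_⟩
        have h4 := nD x hx _ (hv1 (x⁻¹ * g * x) (mul_mem (mul_mem (inv_mem hx) hg) hx))
        have e : x * (x⁻¹ * g * x * v * (x⁻¹ * g * x)⁻¹ * v⁻¹) * x⁻¹ = g * (x * v * x⁻¹) * g⁻¹ * (x * v * x⁻¹)⁻¹ := by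
          group
        rwa [e] at h4
      intro x hx
      rw [mem_normalizer_iff]
      intro v
      refine ⟨key x hx v, fun hv => ?_⟩
      have h4 := key _ (inv_mem hx) _ hv
      have e : x⁻¹ * (x * v * x⁻¹) * x⁻¹⁻¹ = v := by group
      rwa [e] at h4
    have hZT : zc (S : Subgroup G) ≤ T := by
      intro z hz
      have hzV := zc_le_zl (S : Subgroup G) P hz
      refine ⟨hzV, ?_⟩
      let X : Subgroup G :=
        { carrier := {g | g ∈ P ∧ g * z * g⁻¹ * z⁻¹ ∈ D}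
          mul_mem' := by
            rintro a b ⟨ha, ha1⟩ ⟨hb, hb1⟩
            refine ⟨mul_mem ha hb, ?_⟩
            have e : a * b * z * (a * b)⁻¹ * z⁻¹ = a * (b * z * b⁻¹ * z⁻¹) * a⁻¹ * (a * z * a⁻¹ * z⁻¹) := by group
            rw [e]
            exact mul_mem (nD a ha _ hb1) ha1
          one_mem' := ⟨one_mem _, by
            have e : (1 : G) * z * 1⁻¹ * z⁻¹ = 1 := by group
            rw [e]; exact one_mem _⟩
          inv_mem' := by
            rintro a ⟨ha, ha1⟩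
            refine ⟨inv_mem ha, ?_⟩
            have h4 := nD _ (inv_mem ha) _ (inv_mem ha1)
            have e : a⁻¹ * (a * z * a⁻¹ * z⁻¹)⁻¹ * a⁻¹⁻¹ = a⁻¹ * z * a⁻¹⁻¹ * z⁻¹ := by group
            rwa [e] at h4 }
      have h4 : P ≤ X := by
        rw [← h3]
        refine sup_le (fun g hg => ⟨hKP hg, hg.2.1 z hzV⟩) fun g hg => ⟨hP.le hg, ?_⟩
        have e : g * z * g⁻¹ * z⁻¹ = 1 := by
          rw [(MinSimple.VModule.mem_zc.1 hz).2.1 g hg]; group
        rw [e]; exact one_mem _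
      exact fun g hg => (h4 hg).2
    have h5 := MinSimple.VModule.zl_le hZT hTn
    exact (h5 hv₀).2 g₀ hg₀
  · have h4 : s ∈ o2 P := h3 ⟨hs, hP.le hs, h1, h2⟩
    rw [← hP.inf_centralizer S hc] at h4
    exact h4.2

/-! ### natural modules -/

section nat

variable {F : Type} [Field F] {S P W D : Subgroup G} {k : ℕ} {M : NatKM F S P W D k}

theorem ne_one : M.e 1 = 0 := by
  have h := M.mul 1 (one_mem _) 1 (one_mem _)
  rw [one_mul] at h
  exact left_eq_add.1 h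

theorem ne_inv {v : G} (hv : v ∈ W) : M.e v⁻¹ = - M.e v := by
  have h := M.mul v hv v⁻¹ (inv_mem hv)
  rw [mul_inv_cancel, ne_one] at h
  exact (neg_eq_of_add_eq_zero_right h.symm).symm

/-- `a` acts as `(up (b i))_i` on `W / D` and trivially on `D` -/
def U (M : NatKM F S P W D k) (a : G) (b : Fin k → F) : Prop := ActsSL M.e W D a fun i => up (b i)

theorem U.at {a : G} {b : Fin k → F} (h : U M a b) {v : G} (hv : v ∈ W) (i : Fin k) :
    M.e (a * v * a⁻¹) i = ![M.e v i 0 + b i * M.e v i 1, M.e v i 1] := by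
  rw [h.1 v hv i, ap_up]

section amb

variable (hPW : P ≤ normalizer (W : Set G)) (hSP : S ≤ P)
include hPW hSP

theorem U.e_c {a : G} (ha : a ∈ P) {b : Fin k → F} (h : U M a b) {v : G} (hv : v ∈ W) (i : Fin k) :
    M.e (c v a) i = ![-(b i * M.e v i 1), 0] := by
  have e1 : c v a = v * (a * v⁻¹ * a⁻¹) := by rw [c_def]; group
  have h1 : a * v⁻¹ * a⁻¹ ∈ W := (mem_normalizer_iff.1 (hPW ha) _).1 (inv_mem hv)
  rw [e1, M.mul v hv _ h1, Pi.add_apply, h.at (inv_mem hv), ne_inv hv]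
  refine ext2 ?_ ?_
  · simp only [Pi.add_apply, Pi.neg_apply, Matrix.cons_val_zero]
    ring
  · simp

theorem U.mul {a a' : G} (ha' : a' ∈ P) {b b' : Fin k → F} (h : U M a b) (h' : U M a' b') :
    U M (a * a') (b + b') := by
  refine ⟨fun v hv i => ?_, fun d hd => ?_⟩
  · have h1 : a' * v * a'⁻¹ ∈ W := (mem_normalizer_iff.1 (hPW ha') _).1 hv
    have e1 : a * a' * v * (a * a')⁻¹ = a * (a' * v * a'⁻¹) * a⁻¹ := by group
    rw [e1, h.at h1, h'.at hv, ap_up]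
    refine ext2 ?_ ?_
    · simp only [Matrix.cons_val_zero, Matrix.cons_val_one, Pi.add_apply]
      ring
    · simp
  · rw [mul_assoc, h'.2 d hd, ← mul_assoc, h.2 d hd, mul_assoc]

theorem U.inv {a : G} (ha : a ∈ P) {b : Fin k → F} (h : U M a b) : U M a⁻¹ (-b) := by
  refine ⟨fun v hv i => ?_, fun d hd => ?_⟩
  · have h1 : a⁻¹ * v * a⁻¹⁻¹ ∈ W := (mem_normalizer_iff.1 (hPW (inv_mem ha)) _).1 hv
    have e1 : a * (a⁻¹ * v * a⁻¹⁻¹) * a⁻¹ = v := by group
    have h2 := h.at h1 i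
    rw [e1] at h2
    rw [h2, ap_up]
    refine ext2 ?_ ?_
    · simp only [Matrix.cons_val_zero, Matrix.cons_val_one, Pi.neg_apply]
      ring
    · simp
  · have h3 := h.2 d hd
    calc a⁻¹ * d = a⁻¹ * (d * a) * a⁻¹ := by group
      _ = a⁻¹ * (a * d) * a⁻¹ := by rw [h3]
      _ = d * a⁻¹ := by group

/-- the element acts trivially on `W / D` -/
theorem U.mem_D {a : G} (ha : a ∈ P) (h : U M a 0) {v : G} (hv : v ∈ W) : a * v * a⁻¹ * v⁻¹ ∈ D := by
  have h1 : a * v * a⁻¹ ∈ W := (mem_normalizer_iff.1 (hPW ha) _).1 hv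
  refine (M.ker _ (mul_mem h1 (inv_mem hv))).1 ?_
  rw [M.mul _ h1 _ (inv_mem hv), ne_inv hv]
  funext i
  rw [Pi.add_apply, h.at hv]
  refine ext2 ?_ ?_ <;> simp

/-- `A` acts on `W / D` as the full root group of the `i`-th factor, trivially on `D`. -/
structure RtD (M : NatKM F S P W D k) (i : Fin k) (A : Subgroup G) : Prop where
  le : A ≤ S
  acts : ∀ a ∈ A, ∃ b : F, U M a (Pi.single i b)
  ex : ∀ b : F, ∃ a ∈ A, U M a (Pi.single i b)

theorem RtD.of {A : Subgroup G} (htriv : ∀ g ∈ S, U M g 0 → g ∈ centralizer (W : Set G)) (hAS : A ≤ S)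
    (hoff : OffM W A) (hc : Const W A) : ∃ i, RtD M i A := by
  classical
  obtain ⟨I, h1, h2⟩ := M.offM A hAS hoff
  have hI : I.Nonempty := by
    rw [Set.nonempty_iff_ne_empty]
    rintro rfl
    refine hoff.ne fun a ha => ?_
    obtain ⟨b, hb, hac⟩ := h1 a ha
    have hb0 : b = 0 := funext fun i => hb i (Set.notMem_empty i)
    rw [hb0] at hac
    exact htriv a (hAS ha) hac
  obtain ⟨i, hi⟩ := hI
  have hel : ∀ j ∈ I, ∃ v ∈ W, M.e v = Pi.single j ![0, 1] ∧ ∃ a ∈ A, M.e (a * v * a⁻¹ * v⁻¹) j ≠ 0 := by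
    intro j hj
    obtain ⟨v, hv, hev⟩ := M.surj (Pi.single j ![0, 1])
    obtain ⟨a, ha, hac⟩ := h2 (Pi.single j 1) (fun l hl => by
      have : l ≠ j := fun h3 => hl (by rw [h3]; exact hj)
      rw [Pi.single_apply, if_neg this])
    have hU : U M a (Pi.single j 1) := hac
    refine ⟨v, hv, hev, a, ha, fun h0 => ?_⟩
    have hm : a * v * a⁻¹ ∈ W := (mem_normalizer_iff.1 (hPW (hSP (hAS ha))) _).1 hv
    rw [M.mul _ hm _ (inv_mem hv), ne_inv hv, Pi.add_apply, Pi.neg_apply, hU.at hv, hev] at h0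
    have h3 := congrFun h0 0
    simp at h3
  have huniq : ∀ j ∈ I, j = i := by
    intro j hj
    by_contra hne
    obtain ⟨v, hv, hev, a, ha, hav⟩ := hel i hi
    obtain ⟨w, hw, hew, b, hb, hbw⟩ := hel j hj
    have hvc : v ∉ centralizer (A : Set G) := fun h3 => by
      have h4 : a * v * a⁻¹ * v⁻¹ = 1 := by rw [mem_centralizer_iff.1 h3 a ha]; group
      rw [h4, ne_one] at hav
      exact hav rfl
    have hwc : w ∉ centralizer (A : Set G) := fun h3 => by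
      have h4 : b * w * b⁻¹ * w⁻¹ = 1 := by rw [mem_centralizer_iff.1 h3 b hb]; group
      rw [h4, ne_one] at hbw
      exact hbw rfl
    obtain ⟨d, hd, h3⟩ := hc v hv hvc w hw hwc a ha
    obtain ⟨β, -, hdac⟩ := h1 d hd
    have hU : U M d β := hdac
    have hm : d * w * d⁻¹ ∈ W := (mem_normalizer_iff.1 (hPW (hSP (hAS hd))) _).1 hw
    apply hav
    rw [h3, M.mul _ hm _ (inv_mem hw), ne_inv hw, Pi.add_apply, Pi.neg_apply, hU.at hw, hew,
      Pi.single_eq_of_ne (Ne.symm hne)]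
    refine ext2 ?_ ?_ <;> simp
  refine ⟨i, hAS, fun a ha => ?_, fun b => ?_⟩
  · obtain ⟨b, hb, hac⟩ := h1 a ha
    refine ⟨b i, ?_⟩
    have h3 : b = Pi.single i (b i) := by
      funext j
      by_cases hj : j = i
      · subst hj; rw [Pi.single_eq_same]
      · rw [Pi.single_eq_of_ne hj, hb j fun h4 => hj (huniq j h4)]
    rw [← h3]
    exact hac
  · obtain ⟨a, ha, hac⟩ := h2 (Pi.single i b) (fun l hl => by
      have : l ≠ i := fun h3 => hl (by rw [h3]; exact hi)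
      rw [Pi.single_apply, if_neg this])
    exact ⟨a, ha, hac⟩

end amb

end nat

/-- constant commutators for the conjugates -/
theorem const_cj {W A : Subgroup G} {s : G} (hs : s ∈ normalizer (W : Set G)) (h : Const W A) : Const W (cj s A) := by
  have hn : ∀ x ∈ W, s⁻¹ * x * s ∈ W := by
    intro x hx
    have h1 := (mem_normalizer_iff.1 (inv_mem hs) x).1 hx
    rwa [inv_inv] at h1
  have hcc : ∀ x, x ∉ centralizer ((cj s A : Subgroup G) : Set G) → s⁻¹ * x * s ∉ centralizer (A : Set G) := by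
    intro x hx h1
    apply hx
    rw [← cj_centralizer, mem_cj]
    exact h1
  intro x hx hxc y hy hyc a ha
  rw [mem_cj] at ha
  obtain ⟨b, hb, h1⟩ := h _ (hn x hx) (hcc x hxc) _ (hn y hy) (hcc y hyc) _ ha
  refine ⟨s * b * s⁻¹, ?_, ?_⟩
  · rw [mem_cj]
    have e : s⁻¹ * (s * b * s⁻¹) * s = b := by group
    rwa [e]
  · have e1 : a * x * a⁻¹ * x⁻¹ = s * (s⁻¹ * a * s * (s⁻¹ * x * s) * (s⁻¹ * a * s)⁻¹ * (s⁻¹ * x * s)⁻¹) * s⁻¹ := by
      group
    rw [e1, h1]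
    group

/-- `[x, A]` for a fixed `x` is all of `[W, A]`, if the commutators are constant and `[W, A, A] = 1`. -/
theorem exists_c {W A : Subgroup G} (hc : Const W A) (hq : ∀ v ∈ W, ∀ a ∈ A, ∀ b ∈ A, c v a * b = b * c v a) {x : G}
    (hx : x ∈ W) (hxc : x ∉ centralizer (A : Set G)) {y : G} (hy : y ∈ ⁅W, A⁆) : ∃ a ∈ A, c x a = y := by
  have hmul : ∀ a ∈ A, ∀ b ∈ A, c x a * c x b = c x (a * b) := by
    intro a ha b hb
    have e : c x (a * b) = c x a * (a * c x b * a⁻¹) := by rw [c_def, c_def, c_def]; group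
    rw [e, ← hq x hx b hb a ha, mul_inv_cancel_right]
  let X : Subgroup G :=
    { carrier := {y | ∃ a ∈ A, c x a = y}
      mul_mem' := by
        rintro _ _ ⟨a, ha, rfl⟩ ⟨b, hb, rfl⟩
        exact ⟨a * b, mul_mem ha hb, (hmul a ha b hb).symm⟩
      one_mem' := ⟨1, one_mem _, by rw [c_def]; group⟩
      inv_mem' := by
        rintro _ ⟨a, ha, rfl⟩
        refine ⟨a⁻¹, inv_mem ha, ?_⟩
        have h1 := hmul a ha a⁻¹ (inv_mem ha)
        have e : c x (a * a⁻¹) = 1 := by rw [c_def]; group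
        rw [e] at h1
        exact (inv_eq_of_mul_eq_one_right h1).symm }
  have hle : ⁅W, A⁆ ≤ X := by
    rw [commutator_le]
    intro v hv a ha
    by_cases hvc : v ∈ centralizer (A : Set G)
    · have e : ⁅v, a⁆ = 1 := by
        rw [commutatorElement_eq_one_iff_mul_comm]
        exact (mem_centralizer_iff.1 hvc a ha).symm
      rw [e]; exact one_mem _
    · obtain ⟨b, hb, h1⟩ := hc v hv hvc x hx hxc a ha
      refine ⟨b, hb, ?_⟩
      have e1 : c x b = (b * x * b⁻¹ * x⁻¹)⁻¹ := by rw [c_def]; group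
      have e2 : ⁅v, a⁆ = (a * v * a⁻¹ * v⁻¹)⁻¹ := by rw [commutatorElement_def]; group
      rw [e1, e2, h1]
  exact hle hy

theorem c_mul_cent {W : Subgroup G} {v a z : G} (hv : v ∈ W) (hz : z ∈ centralizer (W : Set G)) :
    c v (a * z) = c v a := by
  have h1 := mem_centralizer_iff.1 hz v⁻¹ (inv_mem hv)
  have e : c v (a * z) = v * a * (z * v⁻¹) * z⁻¹ * a⁻¹ := by rw [c_def]; group
  rw [e, ← h1, c_def]
  group

/-- **`TD` for natural modules.** -/
theorem td_nat [Finite G] {F : Type} [Field F] {S P A D : Subgroup G} {k : ℕ}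
    (M : NatKM F S P (zl S P) D k) (hSP : S ≤ P) (hDW : D ≤ zl S P)
    (htriv : ∀ g ∈ S, U M g 0 → g ∈ centralizer (zl S P : Set G)) (hAS : A ≤ S) (hoff : OffM (zl S P) A)
    (hc : Const (zl S P) A) (hq : ∀ v ∈ zl S P, ∀ a ∈ A, ∀ b ∈ A, c v a * b = b * c v a) : TD S P A D := by
  have hPW : P ≤ normalizer (zl S P : Set G) := le_normalizer_zl _ _
  obtain ⟨i, hr⟩ := RtD.of (M := M) hPW hSP htriv hAS hoff hc
  obtain ⟨x, hx, hex⟩ := M.surj (Pi.single i ![0, 1])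
  let K : Subgroup G :=
    { carrier := {v | v ∈ zl S P ∧ M.e v i = 0}
      mul_mem' := by
        rintro a b ⟨ha, ha1⟩ ⟨hb, hb1⟩
        exact ⟨mul_mem ha hb, by rw [M.mul a ha b hb, Pi.add_apply, ha1, hb1, add_zero]⟩
      one_mem' := ⟨one_mem _, by rw [ne_one]; rfl⟩
      inv_mem' := by
        rintro a ⟨ha, ha1⟩
        exact ⟨inv_mem ha, by rw [ne_inv ha, Pi.neg_apply, ha1, neg_zero]⟩ }
  have hxc : x ∉ centralizer (A : Set G) := by
    intro h1
    obtain ⟨a, ha, hU⟩ := hr.ex 1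
    have h2 := hU.e_c hPW hSP (hSP (hAS ha)) hx i
    have h3 : c x a = 1 := by
      rw [c_def, ← mem_centralizer_iff.1 h1 a ha, mul_inv_cancel_right, mul_inv_cancel]
    rw [h3, ne_one, hex] at h2
    have h4 := congrFun h2 0
    simp at h4
  refine ⟨K, fun d hd => ⟨hDW hd, by rw [(M.ker d (hDW hd)).2 hd]; rfl⟩, ?_, fun s hs hne => ?_⟩
  · rw [eq_bot_iff]
    rintro y ⟨hy1, hy2⟩
    obtain ⟨a, ha, rfl⟩ := exists_c hc hq hx hxc hy1
    obtain ⟨b, hU⟩ := hr.acts a ha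
    have h2 := hU.e_c hPW hSP (hSP (hAS ha)) hx i
    rw [hy2.2, hex] at h2
    have h3 := congrFun h2 0
    have hb : b = 0 := by simpa using h3
    rw [hb, Pi.single_zero] at hU
    have h4 := htriv a (hAS ha) hU
    rw [mem_bot, c_def, mem_centralizer_iff.1 h4 x hx, mul_inv_cancel_right, mul_inv_cancel]
  · have hsn := hPW (hSP hs)
    have hS : cj s S = S := cj_eq_of_mem_normalizer (le_normalizer hs)
    have hA'S : cj s A ≤ S := by
      have h1 := cj_mono s hAS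
      rwa [hS] at h1
    have hcm : ⁅zl S P, cj s A⁆ = cj s ⁅zl S P, A⁆ := NOThreeL.NF.NatR.comm_cj s hsn
    obtain ⟨j, hr'⟩ := RtD.of (M := M) hPW hSP htriv hA'S (NOThreeL.NF.NatR.offM_cj hoff hsn) (const_cj hsn hc)
    rw [← hcm, commutator_le]
    intro v hv a' ha'
    obtain ⟨b, hU'⟩ := hr'.acts a' ha'
    by_cases hji : j = i
    · exfalso
      subst hji
      apply hne
      rw [← hcm]
      refine Subgroup.eq_of_le_of_card_ge ?_ (by rw [hcm, card_cj])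
      rw [commutator_le]
      intro v hv a' ha'
      obtain ⟨b, hU'⟩ := hr'.acts a' ha'
      obtain ⟨a, ha, hU⟩ := hr.ex b
      have h1 := (hU.inv hPW hSP (hSP (hAS ha))).mul hPW hSP (hSP (hA'S ha')) hU'
      rw [neg_add_cancel] at h1
      have h2 := htriv _ (mul_mem (inv_mem (hAS ha)) (hA'S ha')) h1
      have h3 := c_mul_cent (a := a) hv h2
      rw [mul_inv_cancel_left] at h3
      change c v a' ∈ _
      rw [h3]
      exact commutator_mem_commutator hv ha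
    · have h1 := hU'.e_c hPW hSP (hSP (hA'S ha')) hv i
      refine ⟨?_, ?_⟩
      · have h2 : a' * v⁻¹ * a'⁻¹ ∈ zl S P := (mem_normalizer_iff.1 (hPW (hSP (hA'S ha'))) _).1 (inv_mem hv)
        have e1 : ⁅v, a'⁆ = v * (a' * v⁻¹ * a'⁻¹) := by rw [commutatorElement_def]; group
        rw [e1]
        exact mul_mem hv h2
      · change M.e (c v a') i = 0
        rw [h1, Pi.single_eq_of_ne (Ne.symm hji)]
        exact ext2 (by simp) (by simp)

end Cfsg.Agent.Omega.NO3S.ActT
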