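import Cfsg.Agent.Omega.NO3S.ActT.TD
import Cfsg.Agent.Omega.NO3S.Act.OneSym

/-!
# Active types have `C_Z(P) = 1` (helper365): the interface `TD`, even-subset modules
-/

set_option autoImplicit false
set_option linter.unusedSectionVars false

namespace Cfsg.Agent.Omega.NO3S.ActT

open Subgroup Cfsg Cfsg.Agent.ZN Cfsg.Agent.ZN.ChoiceBase
open Cfsg.Agent.Omega.FFThm (OffM SymK SymKM ActsSym)
open Cfsg.Agent.Omega.Half.SymA (Pt pm pm_swap exists_third zmod2)
open Cfsg.Agent.Omega.NOThreeL.NF.NatR (Const)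
open Cfsg.Agent.Omega.NOne.NearFF (c c_def)
open scoped Classical commutatorElement

universe u

variable {G : Type u} [Group G]

namespace SD

section basic

variable {T H V D : Subgroup G} {k m : ℕ} (M : SymK T H V D k m)

/-- the characteristic function -/
def E (v : G) (p : Pt k m) : ZMod 2 := M.e v p.1 p.2

theorem E_mul {v w : G} (hv : v ∈ V) (hw : w ∈ V) (p : Pt k m) : E M (v * w) p = E M v p + E M w p := by
  rw [E, M.mul v hv w hw]
  rfl

theorem E_one (p : Pt k m) : E M 1 p = 0 := by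
  have h := E_mul M (one_mem V) (one_mem V) p
  rw [one_mul] at h
  exact left_eq_add.1 h

theorem E_inv {v : G} (hv : v ∈ V) (p : Pt k m) : E M v⁻¹ p = E M v p := by
  have h := E_mul M hv (inv_mem hv) p
  rw [mul_inv_cancel, E_one] at h
  have h1 : E M v⁻¹ p = -E M v p := (neg_eq_of_add_eq_zero_right h.symm).symm
  rw [h1]
  exact CharTwo.neg_eq _

/-- `g` moves the points by `π` -/
def Mv (g : G) (π : Equiv.Perm (Pt k m)) : Prop := ∀ v ∈ V, ∀ p, E M (g * v * g⁻¹) (π p) = E M v p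

theorem Mv_one : Mv M 1 1 := by
  intro v _ p
  rw [one_mul, inv_one, mul_one]
  rfl

theorem mv_pm {g : G} {σ : Equiv.Perm (Fin k)} {τ : Fin k → Equiv.Perm (Fin (2 ^ m + 1))}
    (h : ActsSym M.e V g σ τ) : Mv M g (pm σ τ) := fun v hv p => h v hv p.1 p.2

/-- the pair `{p, q}` modulo `D` -/
theorem exists_pair {p q : Pt k m} (hpq : p.1 = q.1) :
    ∃ v ∈ V, ∀ r, E M v r = (if r = p then 1 else 0) + (if r = q then 1 else 0) := by
  obtain ⟨v, hv, h⟩ := M.surj (fun i x => (if ((i, x) : Pt k m) = p then 1 else 0) + (if ((i, x) : Pt k m) = q then 1 else 0))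
    (fun i => by
      have h1 : ∀ p : Pt k m, ∑ x, (if ((i, x) : Pt k m) = p then (1 : ZMod 2) else 0) = if i = p.1 then 1 else 0 := by
        intro p
        by_cases hi : i = p.1
        · rw [if_pos hi, Finset.sum_eq_single p.2]
          · rw [if_pos (show ((i, p.2) : Pt k m) = p from Prod.ext hi rfl)]
          · intro b _ hb
            rw [if_neg]
            intro h
            exact hb (congrArg Prod.snd h)
          · intro h
            exact absurd (Finset.mem_univ _) h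
        · rw [if_neg hi]
          apply Finset.sum_eq_zero
          intro x _
          rw [if_neg]
          intro h
          exact hi (congrArg Prod.fst h)
      rw [Finset.sum_add_distrib, h1, h1, hpq]
      exact CharTwo.add_self_eq_zero _)
  exact ⟨v, hv, fun r => by rw [E, h]⟩

theorem sep (hm : 1 ≤ m) {p q : Pt k m} (hpq : p ≠ q) : ∃ v ∈ V, E M v p = 1 ∧ E M v q = 0 := by
  obtain ⟨c, hc1, hc2⟩ := exists_third hm p.2 q.2
  obtain ⟨v, hv, h⟩ := exists_pair M (p := p) (q := (p.1, c)) rfl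
  refine ⟨v, hv, ?_, ?_⟩
  · rw [h, if_pos rfl, if_neg, add_zero]
    intro h1
    exact hc1 (congrArg Prod.snd h1).symm
  · rw [h, if_neg hpq.symm, if_neg, add_zero]
    intro h1
    exact hc2 (congrArg Prod.snd h1).symm

variable {M}
variable (hHV : H ≤ normalizer (V : Set G)) (hTH : T ≤ H)
include hHV

theorem cmem {g v : G} (hg : g ∈ H) (hv : v ∈ V) : g * v * g⁻¹ ∈ V := (mem_normalizer_iff.1 (hHV hg) v).1 hv

theorem Mv.unique (hm : 1 ≤ m) {g : G} {π ρ : Equiv.Perm (Pt k m)} (hπ : Mv M g π) (hρ : Mv M g ρ) (hg : g ∈ H) :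
    π = ρ := by
  ext1 p
  by_contra hne
  obtain ⟨w, hw, h1, h2⟩ := sep M hm hne
  have h3 : g⁻¹ * w * g⁻¹⁻¹ ∈ V := cmem hHV (inv_mem hg) hw
  have h4 : g * (g⁻¹ * w * g⁻¹⁻¹) * g⁻¹ = w := by group
  have h5 := hπ _ h3 p
  have h6 := hρ _ h3 p
  rw [h4] at h5 h6
  rw [h1] at h5
  rw [h2, ← h5] at h6
  exact one_ne_zero h6.symm

theorem Mv.mul {g h : G} {π ρ : Equiv.Perm (Pt k m)} (hπ : Mv M g π) (hρ : Mv M h ρ) (hh : h ∈ H) :
    Mv M (g * h) (π * ρ) := by
  intro v hv p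
  have e1 : g * h * v * (g * h)⁻¹ = g * (h * v * h⁻¹) * g⁻¹ := by group
  rw [e1, Equiv.Perm.mul_apply, hπ _ (cmem hHV hh hv), hρ v hv]

theorem Mv.inv {g : G} {π : Equiv.Perm (Pt k m)} (hπ : Mv M g π) (hg : g ∈ H) : Mv M g⁻¹ π⁻¹ := by
  intro v hv p
  have h1 := hπ _ (cmem hHV (inv_mem hg) hv) (π⁻¹ p)
  have h2 : g * (g⁻¹ * v * g⁻¹⁻¹) * g⁻¹ = v := by group
  have h3 : π (π⁻¹ p) = p := π.apply_symm_apply p
  rw [h2, h3] at h1
  exact h1.symm

theorem Mv.pow {g : G} {π : Equiv.Perm (Pt k m)} (hπ : Mv M g π) (hg : g ∈ H) (n : ℕ) : Mv M (g ^ n) (π ^ n) := by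
  induction n with
  | zero => rw [pow_zero, pow_zero]; exact Mv_one M
  | succ n ih => rw [pow_succ, pow_succ]; exact ih.mul hHV hπ hg

include hTH

/-- `T` fixes the zero points -/
theorem Mv.snd (hm : 1 ≤ m) {t : G} {π : Equiv.Perm (Pt k m)} (hπ : Mv M t π) (ht : t ∈ T) {p : Pt k m} :
    (π p).2 = 0 ↔ p.2 = 0 := by
  obtain ⟨σ, τ, h⟩ := M.perm t (hTH ht)
  have h1 := hπ.unique hHV hm (mv_pm M h) (hTH ht)
  have h2 := M.fix0 t ht σ τ h
  rw [h1]
  change τ p.1 p.2 = 0 ↔ p.2 = 0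
  rw [← (τ p.1).injective.eq_iff (a := p.2) (b := 0), h2]

variable (M) in
omit hHV hTH in
/-- `T` contains the transposition `(p q)`. -/
def Sw (p q : Pt k m) : Prop := p ≠ q ∧ p.1 = q.1 ∧ ∃ b ∈ T, Mv M b (Equiv.swap p q)

omit hHV hTH in
theorem Sw.symm {p q : Pt k m} (h : Sw M p q) : Sw M q p := by
  obtain ⟨h1, h2, b, hb, h3⟩ := h
  exact ⟨h1.symm, h2.symm, b, hb, by rwa [Equiv.swap_comm]⟩

theorem Sw.nz (hm : 1 ≤ m) {p q : Pt k m} (h : Sw M p q) : p.2 ≠ 0 := by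
  obtain ⟨h1, h2, b, hb, h3⟩ := h
  intro hp
  have h4 := h3.snd hHV hTH hm hb (p := p)
  rw [Equiv.swap_apply_left] at h4
  exact h1 (Prod.ext h2 (hp.trans (h4.2 hp).symm))

theorem Sw.uniq (hT : IsPGroup 2 T) (hm : 1 ≤ m) {p q r : Pt k m} (h : Sw M p q) (h' : Sw M p r) : q = r := by
  by_contra hne
  obtain ⟨h1, -, b, hb, h3⟩ := h
  obtain ⟨h1', -, c, hc, h3'⟩ := h'
  have h4 := h3.mul hHV h3' (hTH hc)
  obtain ⟨a, ha⟩ := hT ⟨b * c, mul_mem hb hc⟩
  have ha' : (b * c) ^ 2 ^ a = 1 := congrArg Subtype.val ha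
  have h5 := h4.pow hHV (mul_mem (hTH hb) (hTH hc)) (2 ^ a)
  rw [ha'] at h5
  have h6 := h5.unique hHV hm (Mv_one M) (one_mem _)
  have h7 := (Equiv.Perm.isThreeCycle_swap_mul_swap_same h1 h1' hne).orderOf
  have h8 := orderOf_dvd_of_pow_eq_one h6
  rw [h7] at h8
  have h9 := (Nat.Prime.dvd_of_dvd_pow Nat.prime_three h8)
  omega

omit hTH in
/-- the commutator with `a` -/
theorem E_c {a : G} (ha : a ∈ H) {π : Equiv.Perm (Pt k m)} (hπ : Mv M a π) {v : G} (hv : v ∈ V) (r : Pt k m) :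
    E M (c v a) r = E M v r + E M v (π⁻¹ r) := by
  have e1 : c v a = v * (a * v⁻¹ * a⁻¹) := by rw [c_def]; group
  have h1 := hπ v⁻¹ (inv_mem hv) (π⁻¹ r)
  rw [show π (π⁻¹ r) = r from π.apply_symm_apply r] at h1
  rw [e1, E_mul M hv (cmem hHV ha (inv_mem hv)), h1, E_inv M hv]

end basic

section off

variable {S P V D : Subgroup G} {k m : ℕ}

/-- `A ≤ S` acts as the transposition `(p q)` -/
structure AD (M : SymK S P V D k m) (A : Subgroup G) (p q : Pt k m) : Prop where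
  le : A ≤ S
  sw : Sw M p q
  ex : ∃ b ∈ A, Mv M b (Equiv.swap p q)
  all : ∀ a ∈ A, a ∈ centralizer (V : Set G) ∨ Mv M a (Equiv.swap p q)
  cD : ∀ a ∈ A, ∀ d ∈ D, a * d = d * a

theorem AD.of (M : SymKM S P V D k m) (hPV : P ≤ normalizer (V : Set G)) (hSP : S ≤ P) (hS2 : IsPGroup 2 S)
    (hm : 1 ≤ m)
    (htriv : ∀ g ∈ S, Mv M.toSymK g 1 → (∀ d ∈ D, g * d = d * g) → g ∈ centralizer (V : Set G))
    {A : Subgroup G} (hAS : A ≤ S) (hoff : OffM V A) (hc : Const V A) : ∃ p q, AD M.toSymK A p q := by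
  set N := M.toSymK with hN
  obtain ⟨hcD, hof⟩ := M.offM A hAS hoff
  have hAP : A ≤ P := hAS.trans hSP
  have hof' : ∀ a ∈ A, ∃ π : Equiv.Perm (Pt k m), Mv N a π ∧ ∀ r, π r ≠ r →
      r.1 = (π r).1 ∧ π (π r) = r ∧ ∃ b ∈ A, Mv N b (Equiv.swap r (π r)) := by
    intro a ha
    obtain ⟨τ, hτ, hb⟩ := hof a ha
    refine ⟨pm 1 τ, mv_pm N hτ, ?_⟩
    rintro ⟨i, x⟩ hne
    have hix : τ i x ≠ x := fun h0 => hne (Prod.ext rfl h0)
    obtain ⟨h2, b, hbA, hb⟩ := hb i x hix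
    refine ⟨rfl, Prod.ext rfl h2, b, hbA, ?_⟩
    have h1 := mv_pm N hb
    have h2 := pm_swap (k := k) (m := m) (p := (i, x)) (q := (i, τ i x)) rfl
    change pm 1 (Function.update 1 i (Equiv.swap x (τ i x))) = _ at h2
    rw [h2] at h1
    exact h1
  obtain ⟨p, q, hpq, hpq1, b, hb, hπ⟩ : ∃ p q : Pt k m, p ≠ q ∧ p.1 = q.1 ∧ ∃ b ∈ A, Mv N b (Equiv.swap p q) := by
    by_contra hcon
    apply hoff.ne
    intro a ha
    obtain ⟨π, hπ, h1⟩ := hof' a ha
    have hπ1 : π = 1 := by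
      ext1 r
      by_contra hne
      obtain ⟨h2, -, b, hb, h3⟩ := h1 r hne
      exact hcon ⟨r, π r, fun h0 => hne h0.symm, h2, b, hb, h3⟩
    rw [hπ1] at hπ
    exact htriv a (hAS ha) hπ (hcD a ha)
  have hsw : Sw N p q := ⟨hpq, hpq1, b, hAS hb, hπ⟩
  -- all transpositions are `(p q)`
  have huniq : ∀ r r' : Pt k m, r ≠ r' → r.1 = r'.1 → (∃ b ∈ A, Mv N b (Equiv.swap r r')) →
      (p = r ∧ q = r') ∨ (p = r' ∧ q = r) := by
    intro r r' hne h1 hex
    obtain ⟨b', hb', hb'π⟩ := hex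
    have hs' : Sw N r r' := ⟨hne, h1, b', hAS hb', hb'π⟩
    by_contra hcon
    push Not at hcon
    have k1 : p ≠ r := fun h => hcon.1 h (hsw.uniq hPV hSP hS2 hm (h ▸ hs'))
    have k2 : p ≠ r' := fun h => hcon.2 h (hsw.uniq hPV hSP hS2 hm (h ▸ hs'.symm))
    have k3 : q ≠ r := fun h => hcon.2 (hsw.symm.uniq hPV hSP hS2 hm (h ▸ hs')) h
    have k4 : q ≠ r' := fun h => hcon.1 (hsw.symm.uniq hPV hSP hS2 hm (h ▸ hs'.symm)) h
    obtain ⟨v, hv, ev1, ev2⟩ := sep N hm hpq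
    obtain ⟨w, hw, hew⟩ := exists_pair N (p := r) (q := (r.1, 0)) rfl
    have z1 : r ≠ (r.1, 0) := fun h3 => hs'.nz hPV hSP hm (congrArg Prod.snd h3)
    have z2 : r' ≠ (r.1, 0) := fun h3 => hs'.symm.nz hPV hSP hm (congrArg Prod.snd h3)
    have z3 : p ≠ (r.1, 0) := fun h3 => hsw.nz hPV hSP hm (congrArg Prod.snd h3)
    have z4 : q ≠ (r.1, 0) := fun h3 => hsw.symm.nz hPV hSP hm (congrArg Prod.snd h3)
    have ew1 : E N w r = 1 := by rw [hew, if_pos rfl, if_neg z1, add_zero]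
    have ew2 : E N w r' = 0 := by rw [hew, if_neg hne.symm, if_neg z2, add_zero]
    have ew3 : E N w p = 0 := by rw [hew, if_neg k1, if_neg z3, add_zero]
    have ew4 : E N w q = 0 := by rw [hew, if_neg k3, if_neg z4, add_zero]
    have hone : ∀ x y : G, x * y = y * x → c x y = 1 := fun x y h => by
      rw [c_def, h, mul_inv_cancel_right, mul_inv_cancel]
    have ev : E N (c v b) p = 1 := by
      rw [E_c hPV (hAP hb) hπ hv, Equiv.swap_inv, Equiv.swap_apply_left, ev1, ev2, add_zero]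
    have hvc : v ∉ centralizer (A : Set G) := fun h3 => by
      rw [hone v b (mem_centralizer_iff.1 h3 b hb).symm, E_one] at ev
      exact zero_ne_one ev
    have hwc : w ∉ centralizer (A : Set G) := fun h3 => by
      have h4 := E_c hPV (hAP hb') hb'π hw r
      rw [hone w b' (mem_centralizer_iff.1 h3 b' hb').symm, E_one, Equiv.swap_inv, Equiv.swap_apply_left, ew1, ew2,
        add_zero] at h4
      exact zero_ne_one h4
    obtain ⟨d, hd, h2⟩ := hc v hv hvc w hw hwc b hb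
    have h3 : c v b = c w d := by
      have e1 : c v b = (b * v * b⁻¹ * v⁻¹)⁻¹ := by rw [c_def]; group
      have e2 : c w d = (d * w * d⁻¹ * w⁻¹)⁻¹ := by rw [c_def]; group
      rw [e1, e2, h2]
    obtain ⟨π, hdπ, hπd⟩ := hof' d hd
    rw [h3, E_c hPV (hAP hd) hdπ hw, ew3, zero_add] at ev
    -- `π⁻¹ p`
    by_cases h4 : π (π⁻¹ p) = π⁻¹ p
    · have h5 : π⁻¹ p = p := by
        rw [← h4]; exact π.apply_symm_apply p
      rw [h5, ew3] at ev
      exact zero_ne_one ev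
    · obtain ⟨h5, h6, b'', hb'', h7⟩ := hπd _ h4
      have h8 : π (π⁻¹ p) = p := π.apply_symm_apply p
      rw [h8] at h4 h5 h7
      have h9 : Sw N p (π⁻¹ p) := ⟨h4, h5.symm, b'', hAS hb'', by rwa [Equiv.swap_comm]⟩
      rw [h9.uniq hPV hSP hS2 hm hsw, ew4] at ev
      exact zero_ne_one ev
  refine ⟨p, q, hAS, hsw, ⟨b, hb, hπ⟩, fun a ha => ?_, hcD⟩
  obtain ⟨π, hπa, hπr⟩ := hof' a ha
  by_cases h1 : π p = p
  · left
    have h7 : π = 1 := by
      ext1 r
      by_contra hne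
      obtain ⟨h2, h3, h4⟩ := hπr r hne
      rcases huniq r (π r) (fun h0 => hne h0.symm) h2 h4 with ⟨h5, -⟩ | ⟨h5, -⟩
      · exact hne (by rw [← h5]; exact h1)
      · have h6 : π (π r) = π r := by rw [← h5]; exact h1
        exact hne (π.injective h6)
    rw [h7] at hπa
    exact htriv a (hAS ha) hπa (hcD a ha)
  · right
    obtain ⟨h2, h3, h4⟩ := hπr p h1
    have h5 : π p = q := by
      rcases huniq p (π p) (fun h0 => h1 h0.symm) h2 h4 with ⟨-, h5⟩ | ⟨h5, -⟩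
      · exact h5.symm
      · exact absurd h5.symm h1
    have h6 : π q = p := by rw [← h5]; exact h3
    have h7 : π = Equiv.swap p q := by
      ext1 r
      by_cases hr : π r = r
      · have h8 : r ≠ p := fun h9 => h1 (by rw [← h9]; exact hr)
        have h9 : r ≠ q := fun h9 => by
          rw [h9, h6] at hr
          exact hpq hr
        rw [Equiv.swap_apply_of_ne_of_ne h8 h9, hr]
      · obtain ⟨h8, h9, h10⟩ := hπr r hr
        rcases huniq r (π r) (fun h0 => hr h0.symm) h8 h10 with ⟨h11, h12⟩ | ⟨h11, h12⟩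
        · rw [← h11, Equiv.swap_apply_left, h5]
        · rw [← h12, Equiv.swap_apply_right, h6]
    rw [← h7]
    exact hπa

end off

end SD

open SD in
/-- **`TD` for even-subset modules.** -/
theorem td_sym [Finite G] {S P A D : Subgroup G} {k m : ℕ} (M : SymKM S P (zl S P) D k m) (hSP : S ≤ P)
    (hS2 : IsPGroup 2 S) (hm : 1 ≤ m) (hDW : D ≤ zl S P)
    (htriv : ∀ g ∈ S, Mv M.toSymK g 1 → (∀ d ∈ D, g * d = d * g) → g ∈ centralizer (zl S P : Set G))
    (hAS : A ≤ S) (hoff : OffM (zl S P) A) (hc : Const (zl S P) A)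
    (hq : ∀ v ∈ zl S P, ∀ a ∈ A, ∀ b ∈ A, c v a * b = b * c v a) : TD S P A D := by
  have hPW : P ≤ normalizer (zl S P : Set G) := le_normalizer_zl _ _
  obtain ⟨p, q, hr⟩ := AD.of M hPW hSP hS2 hm htriv hAS hoff hc
  set N := M.toSymK with hN
  have hone : ∀ x y : G, x * y = y * x → c x y = 1 := fun x y h => by
    rw [c_def, h, mul_inv_cancel_right, mul_inv_cancel]
  obtain ⟨x, hx, hx1, hx2⟩ := sep N hm hr.sw.1
  let K : Subgroup G :=
    { carrier := {v | v ∈ zl S P ∧ E N v p = 0}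
      mul_mem' := by
        rintro a b ⟨ha, ha1⟩ ⟨hb, hb1⟩
        exact ⟨mul_mem ha hb, by rw [E_mul N ha hb, ha1, hb1, add_zero]⟩
      one_mem' := ⟨one_mem _, E_one N p⟩
      inv_mem' := by
        rintro a ⟨ha, ha1⟩
        exact ⟨inv_mem ha, by rw [E_inv N ha, ha1]⟩ }
  have hEc : ∀ a ∈ S, Mv N a (Equiv.swap p q) → ∀ v ∈ zl S P, E N (c v a) p = E N v p + E N v q := by
    intro a ha hπ v hv
    rw [E_c hPW (hSP ha) hπ hv, Equiv.swap_inv, Equiv.swap_apply_left]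
  have hxc : x ∉ centralizer (A : Set G) := by
    intro h1
    obtain ⟨b, hb, hπ⟩ := hr.ex
    have h2 := hEc b (hAS hb) hπ x hx
    rw [hone x b (mem_centralizer_iff.1 h1 b hb).symm, E_one, hx1, hx2, add_zero] at h2
    exact zero_ne_one h2
  refine ⟨K, fun d hd => ⟨hDW hd, ?_⟩, ?_, fun s hs hne => ?_⟩
  · have h1 := (M.ker d (hDW hd)).2 hd
    change N.e d p.1 p.2 = 0
    have h2 : N.e d = 0 := h1
    rw [h2]; rfl
  · rw [eq_bot_iff]
    rintro y ⟨hy1, hy2⟩
    obtain ⟨a, ha, rfl⟩ := exists_c hc hq hx hxc hy1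
    rcases hr.all a ha with h1 | h1
    · rw [mem_bot]
      exact hone x a (mem_centralizer_iff.1 h1 x hx)
    · have h2 := hEc a (hAS ha) h1 x hx
      have h3 : E N (c x a) p = 0 := hy2.2
      rw [h3, hx1, hx2, add_zero] at h2
      exact absurd h2 zero_ne_one
  · have hsn := hPW (hSP hs)
    have hS : cj s S = S := cj_eq_of_mem_normalizer (le_normalizer hs)
    have hA'S : cj s A ≤ S := by
      have h1 := cj_mono s hAS
      rwa [hS] at h1
    have hcm : ⁅zl S P, cj s A⁆ = cj s ⁅zl S P, A⁆ := NOThreeL.NF.NatR.comm_cj s hsn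
    obtain ⟨p', q', hr'⟩ := AD.of M hPW hSP hS2 hm htriv hA'S (NOThreeL.NF.NatR.offM_cj hoff hsn) (const_cj hsn hc)
    rw [← hcm, commutator_le]
    by_cases hpp : (p' = p ∧ q' = q) ∨ (p' = q ∧ q' = p)
    · exfalso
      apply hne
      have hsw : Equiv.swap p' q' = Equiv.swap p q := by
        rcases hpp with ⟨rfl, rfl⟩ | ⟨rfl, rfl⟩
        · rfl
        · exact Equiv.swap_comm _ _
      rw [← hcm]
      refine Subgroup.eq_of_le_of_card_ge ?_ (by rw [hcm, card_cj])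
      rw [commutator_le]
      intro v hv a' ha'
      rcases hr'.all a' ha' with h1 | h1
      · have e : ⁅v, a'⁆ = 1 := by
          rw [commutatorElement_eq_one_iff_mul_comm]
          exact mem_centralizer_iff.1 h1 v hv
        rw [e]; exact one_mem _
      · obtain ⟨b, hb, hπ⟩ := hr.ex
        rw [hsw] at h1
        have h2 := (hπ.inv hPW (hSP (hAS hb))).mul hPW h1 (hSP (hA'S ha'))
        rw [inv_mul_cancel] at h2
        have h3 := htriv _ (mul_mem (inv_mem (hAS hb)) (hA'S ha')) h2 (fun d hd => by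
          have e1 := hr'.cD a' ha' d hd
          have e2 := hr.cD b hb d hd
          calc b⁻¹ * a' * d = b⁻¹ * (a' * d) := by group
            _ = b⁻¹ * (d * b) * b⁻¹ * a' := by rw [e1]; group
            _ = b⁻¹ * (b * d) * b⁻¹ * a' := by rw [e2]
            _ = d * (b⁻¹ * a') := by group)
        have h4 := c_mul_cent (a := b) hv h3
        rw [mul_inv_cancel_left] at h4
        change c v a' ∈ _
        rw [h4]
        exact commutator_mem_commutator hv hb
    · -- disjoint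
      have k1 : p ≠ p' := by
        rintro rfl
        exact hpp (Or.inl ⟨rfl, hr'.sw.uniq hPW hSP hS2 hm hr.sw⟩)
      have k2 : p ≠ q' := by
        rintro rfl
        exact hpp (Or.inr ⟨hr'.sw.symm.uniq hPW hSP hS2 hm hr.sw, rfl⟩)
      intro v hv a' ha'
      refine ⟨?_, ?_⟩
      · have h2 : a' * v⁻¹ * a'⁻¹ ∈ zl S P := (mem_normalizer_iff.1 (hPW (hSP (hA'S ha'))) _).1 (inv_mem hv)
        have e1 : ⁅v, a'⁆ = v * (a' * v⁻¹ * a'⁻¹) := by rw [commutatorElement_def]; group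
        rw [e1]
        exact mul_mem hv h2
      · change E N (c v a') p = 0
        rcases hr'.all a' ha' with h1 | h1
        · rw [hone v a' (mem_centralizer_iff.1 h1 v hv), E_one]
        · rw [E_c hPW (hSP (hA'S ha')) h1 hv, Equiv.swap_inv, Equiv.swap_apply_of_ne_of_ne k1 k2]
          exact CharTwo.add_self_eq_zero _

end Cfsg.Agent.Omega.NO3S.ActT
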