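import Cfsg.Agent.Omega.NOThreeL.NF.Defs
import Cfsg.Agent.Omega.NOne.NearFF

/-!
# THEOREM ACT (#20049, helper365): the interface to the FF theorem

`W = zl S P`, `A ≤ S` one full root group (a minimal offender), `pts` the `S`-conjugates of `[W, A]`.

* `blocks` : `W` is generated by subgroups `N i` such that an element `t ∈ S` centralising all points has `[N i, t]` in
  the point `R i`, and `[N i, t] = R i` if `[N i, t] ≠ 1`;
* `gen` : some `g ∈ P` with `P = ⟨S^g, A⟩` moves every point `r` into a centraliser of `A`, or the `S`-conjugates of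
  `r^g [W, A]` generate `W`; no nontrivial vector which is fixed by all `A^s` is moved into `[W, A]` by `g`
  (helper633's `dis`).
-/

set_option autoImplicit false

namespace Cfsg.Agent.Omega.NO3S.ActT

open Subgroup Cfsg Cfsg.Agent.ZN Cfsg.Agent.ZN.ChoiceBase
open Cfsg.Agent.Omega.NOne.NearFF (c)

universe u

variable {G : Type u} [Group G]

/-- `t` centralises all points. -/
def CP (S P A : Subgroup G) (t : G) : Prop :=
  ∀ r ∈ NOThreeL.NF.pts (zl S P) S A, ∀ y ∈ r, t * y = y * t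

/-- The interface to the FF theorem for THEOREM ACT. -/
structure TL (S P A : Subgroup G) : Prop where
  blocks : ∃ (ι : Type) (R N : ι → Subgroup G), (∀ i, R i ∈ NOThreeL.NF.pts (zl S P) S A) ∧ (∀ i, N i ≤ zl S P) ∧
    zl S P ≤ ⨆ i, N i ∧
    (∀ t ∈ S, CP S P A t → ∀ i, ∀ v ∈ N i, c v t ∈ R i) ∧
    (∀ t ∈ S, CP S P A t → ∀ i, ∀ v ∈ N i, c v t ≠ 1 → ∀ y ∈ R i, ∃ v' ∈ N i, c v' t = y)
  gen : ∃ g ∈ P, P ≤ cj g S ⊔ A ∧ (∀ r ∈ NOThreeL.NF.pts (zl S P) S A, ¬ cj g r ≤ centralizer (A : Set G) →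
    zl S P ≤ ⨆ s : S, cj (s : G) (cj g r ⊔ ⁅zl S P, A⁆)) ∧
    ∀ x ∈ zl S P, (∀ s ∈ S, cj s A ≤ centralizer ({x} : Set G)) → g * x * g⁻¹ ∈ ⁅zl S P, A⁆ → x = 1

end Cfsg.Agent.Omega.NO3S.ActT
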