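import Cfsg.Agent.Omega.NO3S.ActT.TL
import Cfsg.Agent.Omega.NOThreeL.Low.PmNat
import Cfsg.Agent.Omega.NO1.NSix.Semi

/-!
# THEOREM ACT (#20049, helper365): the interface `TL` for natural modules
-/

set_option autoImplicit false
set_option linter.unusedSectionVars false

namespace Cfsg.Agent.Omega.NO3S.ActT

open Subgroup Cfsg Cfsg.Agent.ZN Cfsg.Agent.ZN.ChoiceBase
open Cfsg.Agent.Omega.MinPar
open Cfsg.Agent.Omega.FFThm (NatK NatKM ActsSL)
open Cfsg.Agent.Omega.Half (Amb)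
open Cfsg.Agent.Omega.Half.NatA (fac Mv Mv.unique)
open Cfsg.Agent.Omega.NOThreeL.NF.NatR
open Cfsg.Agent.Omega.NO1.NSix (em em_mem e_em_self e_em_ne em_eq em_fac em_add mem_of_em ph e_conj ph_add)
open Cfsg.Agent.Omega.NatPair (ap ap_zero' ap_one' ext2 ap_inv_ap)
open Cfsg.Agent.Omega.NOne.NearFF (c c_def)
open Cfsg.Agent.Lib.SL2Mat
open scoped commutatorElement

universe u

variable {G : Type u} [Group G] {F : Type} [Field F] {S P W : Subgroup G} {k : ℕ} {M : NatKM F S P W ⊥ k}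

theorem decomp (x : Fin 2 → F) : x = x 0 • ![1, 0] + x 1 • ![0, 1] := by
  apply ext2 <;> simp

/-- an element of `S` which centralises all lines acts on every summand as an upper unitriangular matrix -/
theorem exists_up [Finite F] [CharP F 2] (hA : Amb S P W) (hS : IsPGroup 2 S) {t : G} (ht : t ∈ S)
    (hc : ∀ j, ∀ y ∈ ln M {j}, t * y = y * t) (j : Fin k) :
    ∃ a : F, ∀ v ∈ W, M.e (t * v * t⁻¹) j = ![M.e v j 0 + a * M.e v j 1, M.e v j 1] := by
  have htP : t ∈ P := hA.TH ht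
  have hcv : ∀ g ∈ P, ∀ v ∈ W, g * v * g⁻¹ ∈ W := fun g hg v hv => hA.conj_mem hg hv
  have hfix : ∀ i, ∀ y ∈ ln M {i}, t * y * t⁻¹ = y := fun i y hy => by
    rw [hc i y hy, mul_inv_cancel_right]
  obtain ⟨σ, hσ⟩ := M.perm t htP
  have hj : σ j = j := by
    by_contra hne
    obtain ⟨y, hy, hy0⟩ := exists_ln (M := M) j 1
    have h1 := (hσ y hy.1 j).1
    rw [hfix j y hy] at h1
    have h2 := h1 (hy.2.2 _ hne)
    rw [h2] at hy0
    exact zero_ne_one hy0
  obtain ⟨τ, hτ⟩ := NO1.NSix.exists_semi hA (M := M.toNatK) htP (show Mv M.toNatK t σ from hσ) j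
  rw [hj] at hτ
  have hph : ∀ v ∈ W, M.e (t * v * t⁻¹) j = ph M.toNatK t j j (M.e v j) := by
    intro v hv
    have h1 := e_conj hA (M := M.toNatK) htP (show Mv M.toNatK t σ from hσ) hv j
    rwa [hj] at h1
  -- the line
  have hl : ∀ x : F, ph M.toNatK t j j ![x, 0] = ![x, 0] := by
    intro x
    have h1 := em_mem M.toNatK j ![x, 0]
    have h2 : em M.toNatK j ![x, 0] ∈ ln M {j} := by
      refine ⟨h1, fun l => ?_, fun l hl => e_em_ne M.toNatK hl _⟩
      by_cases hl : l = j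
      · subst hl
        have h3 := e_em_self M.toNatK l ![x, 0]
        exact (congrFun h3 1).trans rfl
      · have h3 := e_em_ne M.toNatK hl ![x, 0]
        exact (congrFun h3 1).trans rfl
    have h3 := hph _ h1
    rw [hfix j _ h2] at h3
    have h4 := e_em_self M.toNatK j ![x, 0]
    rw [h4] at h3
    exact h3.symm
  have hτ1 : ∀ x : F, τ x = x := by
    intro x
    have h1 := hτ x ![1, 0]
    have h2 : x • (![1, 0] : Fin 2 → F) = ![x, 0] := by apply ext2 <;> simp
    rw [h2, hl, hl] at h1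
    have h3 := congrFun h1 0
    simp at h3
    exact h3.symm
  set a := ph M.toNatK t j j ![0, 1] 0 with ha
  set μ := ph M.toNatK t j j ![0, 1] 1 with hμ
  have hmat : ∀ x : Fin 2 → F, ph M.toNatK t j j x = ![x 0 + a * x 1, μ * x 1] := by
    intro x
    conv_lhs => rw [decomp x]
    rw [ph_add hA htP, hτ, hτ, hτ1, hτ1, hl]
    refine ext2 ?_ ?_
    · simp only [Pi.add_apply, Pi.smul_apply, Matrix.cons_val_zero, smul_eq_mul, mul_one]
      rw [← ha, mul_comm (x 1)]
    · simp only [Pi.add_apply, Pi.smul_apply, Matrix.cons_val_one, Matrix.cons_val_zero, smul_eq_mul, mul_zero,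
        zero_add]
      rw [← hμ, mul_comm (x 1)]
  have hlam : ∀ v ∈ W, M.e (t * v * t⁻¹) j 1 = μ * M.e v j 1 := by
    intro v hv
    rw [hph v hv, hmat]
    rfl
  have hpow : ∀ n : ℕ, ∀ v ∈ W, M.e (t ^ n * v * (t ^ n)⁻¹) j 1 = μ ^ n * M.e v j 1 := by
    intro n
    induction n with
    | zero => intro v _; simp
    | succ n ih =>
      intro v hv
      have h1 := hlam _ (hcv (t ^ n) (P.pow_mem htP n) v hv)
      have e1 : t * (t ^ n * v * (t ^ n)⁻¹) * t⁻¹ = t ^ (n + 1) * v * (t ^ (n + 1))⁻¹ := by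
        rw [pow_succ' t n]; group
      rw [e1, ih v hv] at h1
      rw [h1, pow_succ', mul_assoc]
  obtain ⟨n, hn⟩ := hS ⟨t, ht⟩
  have hn' : t ^ (2 ^ n) = 1 := congrArg Subtype.val hn
  obtain ⟨u, hu, hue, -⟩ := exists_pt (M := M) j ![0, 1]
  have h1 := hpow (2 ^ n) u hu
  rw [hn', one_mul, inv_one, mul_one, hue] at h1
  have h2 : μ ^ 2 ^ n = 1 := by simpa using h1.symm
  have hμ1 : μ = 1 := by
    have h3 : (μ - 1) ^ 2 ^ n = 0 := by
      rw [sub_pow_char_pow, h2, one_pow, sub_self]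
    exact sub_eq_zero.1 (pow_eq_zero_iff (pow_ne_zero n two_ne_zero) |>.1 h3)
  refine ⟨a, fun v hv => ?_⟩
  rw [hph v hv, hmat, hμ1, one_mul]

/-- the commutator with such an element -/
theorem e_c (hA : Amb S P W) {t : G} (ht : t ∈ S) {a : F} {j : Fin k}
    (h : ∀ v ∈ W, M.e (t * v * t⁻¹) j = ![M.e v j 0 + a * M.e v j 1, M.e v j 1]) {v : G} (hv : v ∈ W) :
    M.e (c v t) j = ![- (a * M.e v j 1), 0] := by
  have e1 : c v t = v * (t * v⁻¹ * t⁻¹) := by rw [c_def]; group
  rw [e1, M.mul v hv _ (hA.conj_mem (hA.TH ht) (inv_mem hv)), Pi.add_apply, h _ (inv_mem hv), e_inv hv]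
  refine ext2 ?_ ?_
  · simp only [Pi.add_apply, Pi.neg_apply, Matrix.cons_val_zero]
    ring
  · simp

/-- `em i (0, x)` and the Weyl element of the `i`-th summand -/
theorem mem_cj_wm (hPW : P ≤ normalizer (W : Set G)) {w : G} (hw : w ∈ P) {i : Fin k}
    (hac : Ac M w (Pi.mulSingle i (wm 1 one_ne_zero))) (x : F) :
    em M.toNatK i ![0, x] ∈ cj w⁻¹ (ln M {i}) := by
  have h1 := em_mem M.toNatK i ![0, x]
  rw [mem_cj, inv_inv]
  refine ⟨cmem hPW hw h1, fun l => ?_, fun l hl => ?_⟩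
  · rw [hac _ h1 l]
    by_cases hl : l = i
    · subst hl
      have h3 := e_em_self M.toNatK l ![0, x]
      rw [Pi.mulSingle_eq_same, h3, ap_one', wm_10, wm_11]
      simp
    · have h3 := e_em_ne M.toNatK hl ![0, x]
      rw [Pi.mulSingle_eq_of_ne hl, h3, Omega.Half.ap_zero]
      rfl
  · have hl' : l ≠ i := hl
    have h3 := e_em_ne M.toNatK hl' ![0, x]
    rw [hac _ h1 l, h3, Omega.Half.ap_zero]

/-- **`TL` for natural modules** -/
theorem tl_nat [Finite G] [Finite F] [CharP F 2] {S P A : Subgroup G} {k : ℕ} (M : NatKM F S P (zl S P) ⊥ k)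
    (hA : Amb S P (zl S P)) (hS : IsPGroup 2 S) (hP : IsParS S P)
    (hmin : NOThreeL.NF.MinOffM (zl S P) S A) : TL S P A := by
  have hPW := hA.HV
  have hSP := hA.TH
  obtain ⟨i, hr⟩ := Rt.of (M := M) hPW hSP hmin
  have hpts := pts_eq (M := M) hPW hSP hr
  have hmemp : ∀ j, ln M {j} ∈ NOThreeL.NF.pts (zl S P) S A := fun j => by
    rw [hpts]; exact ⟨j, Set.mem_univ _, rfl⟩
  have hcp : ∀ t, CP S P A t → ∀ j, ∀ y ∈ ln M {j}, t * y = y * t := fun t ht j => ht _ (hmemp j)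
  have hcW : ∀ t ∈ S, ∀ v ∈ zl S P, c v t ∈ zl S P := by
    intro t ht v hv
    have e1 : c v t = v * (t * v⁻¹ * t⁻¹) := by rw [c_def]; group
    rw [e1]
    exact mul_mem hv (hA.conj_mem (hSP ht) (inv_mem hv))
  have htri : ∀ t ∈ S, CP S P A t → ∀ j, ∀ v ∈ fac M.toNatK {j}, c v t ∈ ln M {j} := by
    intro t ht htc j v hv
    refine ⟨hcW t ht v hv.1, fun l => ?_, fun l hl => ?_⟩
    · obtain ⟨a, ha⟩ := exists_up hA hS ht (hcp t htc) l
      rw [e_c hA ht ha hv.1]; rfl
    · obtain ⟨a, ha⟩ := exists_up hA hS ht (hcp t htc) l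
      have h0 : M.e v l = 0 := hv.2 l hl
      rw [e_c hA ht ha hv.1, h0]
      exact ext2 (by simp) (by simp)
  refine ⟨⟨Fin k, fun j => ln M {j}, fun j => fac M.toNatK {j}, hmemp, fun j => Omega.Half.NatA.fac_le _ _,
    ?_, htri, ?_⟩, ?_⟩
  · intro v hv
    exact mem_of_em M.toNatK hv fun j => (le_iSup (fun j => fac M.toNatK {j}) j) (em_fac M.toNatK j _)
  · intro t ht htc j v hv hne y hy
    obtain ⟨a, ha⟩ := exists_up hA hS ht (hcp t htc) j
    have ha0 : a ≠ 0 := by
      rintro rfl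
      apply hne
      refine e_inj (M := M) (hcW t ht v hv.1) (one_mem _) ?_
      rw [e_one]
      funext l
      by_cases hl : l = j
      · subst hl
        rw [e_c hA ht ha hv.1]
        exact ext2 (by simp) (by simp)
      · exact (htri t ht htc j v hv).2.2 l hl
    refine ⟨em M.toNatK j ![0, -(M.e y j 0 / a)], em_fac _ _ _, ?_⟩
    refine ln_ext (M := M) (htri t ht htc j _ (em_fac _ _ _)) hy ?_
    rw [e_c hA ht ha (em_mem M.toNatK _ _)]
    have h3 := e_em_self M.toNatK j ![0, -(M.e y j 0 / a)]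
    rw [h3]
    simp only [Matrix.cons_val_zero, Matrix.cons_val_one]
    field_simp
  · obtain ⟨w, hw, hac⟩ := lift_ac (M := M) (Pi.mulSingle i (wm 1 one_ne_zero))
    refine ⟨w⁻¹, inv_mem hw, ?_, ?_, ?_⟩
    · -- `P = ⟨S, A^w⟩`
      obtain ⟨a, ha, haa⟩ := hr.ex (-1)
      have haP : a ∈ P := hSP (hr.le ha)
      have h1 := Ac.mul hPW (inv_mem hw) (Ac.mul hPW haP hac haa) (hac.inv hPW hw)
      have e1 : (Pi.mulSingle i (wm 1 one_ne_zero) : Fin k → Matrix.SpecialLinearGroup (Fin 2) F) *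
          Pi.mulSingle i (up (-1)) * (Pi.mulSingle i (wm 1 one_ne_zero))⁻¹ = Pi.mulSingle i (lo 1) := by
        rw [← Pi.mulSingle_mul, ← Pi.mulSingle_inv, ← Pi.mulSingle_mul, wm_up, mul_inv_cancel_right]
        congr 2
        ring
      rw [e1] at h1
      have h2 : w * a * w⁻¹ ∈ S ⊔ cj w A := by
        refine (le_sup_right : cj w A ≤ _) ?_
        rw [mem_cj]
        have e2 : w⁻¹ * (w * a * w⁻¹) * w = a := by group
        rwa [e2]
      have h3 : cj w A ≤ P := by
        rintro _ ⟨b, hb, rfl⟩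
        exact mul_mem (mul_mem hw (hSP (hr.le hb))) (inv_mem hw)
      have h4 := NOThreeL.Low.le_of_lo M hP le_sup_left (sup_le hSP h3) h2 h1
      have h5 : cj w⁻¹ P = P := cj_eq_of_mem_normalizer (le_normalizer (inv_mem hw))
      have h6 := cj_mono w⁻¹ h4
      have h7 : cj w⁻¹ (S ⊔ cj w A) = cj w⁻¹ S ⊔ cj w⁻¹ (cj w A) := map_sup _ _ _
      rw [h5, h7, cj_inv_cj] at h6
      exact h6
    · intro r hrr hnc
      rw [hpts] at hrr
      obtain ⟨j, -, rfl⟩ := hrr
      have hji : j = i := by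
        by_contra hne
        apply hnc
        rintro _ ⟨v, hv, rfl⟩
        change w⁻¹ * v * w⁻¹⁻¹ ∈ _
        have h1 : w⁻¹ * v * w⁻¹⁻¹ = v := by
          refine e_inj (M := M) (cmem hPW (inv_mem hw) hv.1) hv.1 ?_
          funext l
          have h2 := hac.inv hPW hw v hv.1 l
          rw [h2, ← Pi.mulSingle_inv]
          by_cases hl : l = i
          · subst hl
            rw [hv.2.2 l (fun h3 => hne h3.symm), Omega.Half.ap_zero]
          · rw [Pi.mulSingle_eq_of_ne hl, NatPair.ap_one]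
        rw [h1]
        exact hr.fix hPW hSP hv.1 (hv.2.1 i)
      subst hji
      set D : Subgroup G := ⨆ s : S, cj (s : G) (cj w⁻¹ (ln M {j}) ⊔ ⁅zl S P, A⁆) with hD
      have hfac : ∀ x : Fin 2 → F, em M.toNatK j x ∈ cj w⁻¹ (ln M {j}) ⊔ ⁅zl S P, A⁆ := by
        intro x
        have e1 : x = ![x 0, 0] + ![0, x 1] := by apply ext2 <;> simp
        rw [e1, em_add]
        refine mul_mem ((le_sup_right : ⁅zl S P, A⁆ ≤ _) ?_) ((le_sup_left : cj w⁻¹ (ln M {j}) ≤ _) ?_)
        · rw [hr.comm_eq hPW hSP]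
          refine ⟨em_mem _ _ _, fun l => ?_, fun l hl => e_em_ne M.toNatK hl _⟩
          by_cases hl : l = j
          · subst hl
            have h3 := e_em_self M.toNatK l ![x 0, 0]
            exact (congrFun h3 1).trans rfl
          · have h3 := e_em_ne M.toNatK hl ![x 0, 0]
            exact (congrFun h3 1).trans rfl
        · exact mem_cj_wm hPW hw hac _
      intro v hv
      refine mem_of_em M.toNatK hv fun l => ?_
      obtain ⟨t, ht, htr⟩ := M.trans j l
      obtain ⟨σ, hσ⟩ := M.perm t (hSP ht)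
      have hjl : σ j = l := Mv.unique M.toNatK hA (show Mv M.toNatK t σ from hσ) (hSP ht) htr
      set u := em M.toNatK l (M.e v l) with hu
      have huW : u ∈ zl S P := em_mem _ _ _
      have hu' : t⁻¹ * u * t⁻¹⁻¹ ∈ zl S P := hA.conj_mem (inv_mem (hSP ht)) huW
      have e1 : t * (t⁻¹ * u * t⁻¹⁻¹) * t⁻¹ = u := by group
      have h1 : t⁻¹ * u * t⁻¹⁻¹ = em M.toNatK j (M.e (t⁻¹ * u * t⁻¹⁻¹) j) := by
        refine (em_eq M.toNatK hu' fun l' hl' => ?_).symm
        refine (hσ _ hu' l').1 ?_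
        rw [e1]
        refine e_em_ne M.toNatK ?_ _
        intro h2
        exact hl' (σ.injective (h2.trans hjl.symm))
      have h2 : cj t (cj w⁻¹ (ln M {j}) ⊔ ⁅zl S P, A⁆) ≤ D :=
        le_iSup (fun s : S => cj (s : G) (cj w⁻¹ (ln M {j}) ⊔ ⁅zl S P, A⁆)) ⟨t, ht⟩
      apply h2
      rw [mem_cj]
      have e2 : t⁻¹ * u * t = t⁻¹ * u * t⁻¹⁻¹ := by rw [inv_inv]
      rw [e2, h1]
      exact hfac _
    · intro x hx hxc hxr
      have hx1 : ∀ l, M.e x l 1 = 0 := by
        intro l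
        obtain ⟨t, ht, hrt⟩ := exists_rt (M := M) hPW hSP hmin hr l
        refine hrt.zero_of_cent hx ?_
        rw [mem_centralizer_iff]
        intro y hy
        exact mem_centralizer_singleton_iff.1 (hxc t ht hy)
      rw [hr.comm_eq hPW hSP] at hxr
      set y := w⁻¹ * x * w⁻¹⁻¹ with hy
      have hxy : w * y * w⁻¹ = x := by rw [hy]; group
      have h1 : ∀ l, M.e x l = ap ((Pi.mulSingle i (wm 1 one_ne_zero) :
          Fin k → Matrix.SpecialLinearGroup (Fin 2) F) l) (M.e y l) := by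
        intro l
        have h2 := hac y hxr.1 l
        rwa [hxy] at h2
      refine e_inj (M := M) hx (one_mem _) ?_
      rw [e_one]
      funext l
      by_cases hl : l = i
      · subst hl
        have h2 := h1 l
        rw [Pi.mulSingle_eq_same] at h2
        have h3 := hx1 l
        rw [h2, ap_one', wm_10, wm_11, hxr.2.1 l] at h3
        have h4 : M.e y l 0 = 0 := by simpa using h3
        have h5 : M.e y l = 0 := ext2 h4 (hxr.2.1 l)
        rw [h2, h5, Omega.Half.ap_zero]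
        rfl
      · rw [h1 l, hxr.2.2 l hl, Omega.Half.ap_zero]
        rfl

end Cfsg.Agent.Omega.NO3S.ActT
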